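import Cfsg.Agent.TH.Cl.Ten.Key

/-!
# S3541, tensor decompositions: the reduction (helper94)

`mem_Dt_of_S2`, `mem_Dt_comm` : unipotent elements of `Dt F B`; `uniD` : **UNI** for `Dt F B`; `no_idem` : no such element
if a proper symmetric idempotent commutes with `B`; `skew_cen` : factors `O₂` do not occur.
-/

set_option autoImplicit false
set_option linter.unusedSectionVars false

namespace Cfsg.Agent.TH.Cl.Ten

open Cfsg.Agent.DS.Cl Cfsg.Agent.DS.Cl.Fwd Cfsg.Agent.SB.Cl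
open scoped Pointwise commutatorElement

local notation "cA" => Cfsg.Agent.DS.Cl.cj

variable {A : Type} [Ring A] [StarRing A] [Finite A]

/-- a long root element `1 + ν` with a totally isotropic idempotent -/
structure S2 (ν ε : A) : Prop where
  ne : ν ≠ 0
  skew : star ν = -ν
  en : ε * ν = ν
  nE : ν * ε = 0
  es : ε * star ε = 0
  se : star ε * ε = 0

theorem S2.sq {ν ε : A} (h : S2 ν ε) : ν * ν = 0 := by
  conv_lhs => rhs; rw [← h.en]
  rw [← mul_assoc, h.nE, zero_mul]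

theorem S2.sn {ν ε : A} (h : S2 ν ε) : star ε * ν = 0 := by
  have h1 := congrArg star h.nE
  rwa [star_mul, h.skew, star_zero, mul_neg, neg_eq_zero] at h1

theorem S2.ns {ν ε : A} (h : S2 ν ε) : ν * star ε = ν := by
  have h1 := congrArg star h.en
  rwa [star_mul, h.skew, neg_mul, neg_inj] at h1

/-- the unit `1 + ν` -/
def sqU (ν : A) (h : ν * ν = 0) : Aˣ where
  val := 1 + ν
  inv := 1 - ν
  val_inv := by rw [add_mul, mul_sub, mul_sub, h]; simp
  inv_val := by rw [sub_mul, mul_add, mul_add, h]; simp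

theorem one_add_pow {ν : A} (h : ν * ν = 0) (k : ℕ) : (1 + ν) ^ k = 1 + k * ν := by
  induction k with
  | zero => simp
  | succ k ih => rw [pow_succ, ih, add_mul, mul_add, mul_add, mul_assoc _ ν ν, h]; push_cast; noncomm_ring

theorem comm_val {a b : A} (ha : a * a = 0) (hb : b * b = 0) (h1 : a * b * a = 0) (h2 : b * a * b = 0) :
    (1 + a) * (1 + b) * (1 - a) * (1 - b) = 1 + (a * b - b * a) := by
  have e : (1 + a) * (1 + b) * (1 - a) * (1 - b) = 1 + (a * b - b * a) - a * a * (1 - b) - a * b * a * (1 - b)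
      - (1 + a) * (b * b) + b * a * b := by noncomm_ring
  rw [e, ha, hb, h1, h2]
  simp

theorem mm {B : Subring A} {α' y : A} (h1 : α' ∈ B) (h2 : y ∈ Cz B) (α y' : A) :
    α * y * (α' * y') = α * α' * (y * y') := by
  rw [mul_assoc, ← mul_assoc y, ← h2 α' h1, mul_assoc, mul_assoc]

theorem not_cen (h : SS A) {ν : A} (h0 : ν ≠ 0) (hn : IsNilpotent ν) : 1 + ν ∉ Subring.center A := fun hc =>
  h0 (SS_eq_zero h (by simpa using sub_mem hc (one_mem _)) hn)

namespace TD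

variable {F : FR A} {𝓑 : Set (Subring A)} (h : TD F 𝓑) {B : Subring A} (hB : B ∈ 𝓑)
include h hB

theorem star_mm {α y : A} (h1 : α ∈ B) (h2 : y ∈ Cz B) : star (α * y) = star α * star y := by
  rw [star_mul, h.star_Cz hB y h2 _ (h.t.star_mem B hB α h1)]

theorem nil {α y : A} (h1 : α ∈ B) (h2 : y ∈ Cz B) (h3 : α * star α = 0) (h4 : star α * α = 0)
    (h5 : α * α * (y * y) = 0) : Nil F (α * y) := by
  have h1' := h.t.star_mem B hB α h1
  have h2' := h.star_Cz hB y h2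
  obtain ⟨l, hl, -, hl'⟩ := h.exists_l hB
  refine ⟨by rw [mm h1 h2, h5], by rw [h.star_mm hB h1 h2, mm h1' h2, h3, zero_mul],
    by rw [h.star_mm hB h1 h2, mm h1 h2', h4, zero_mul], ?_, ?_⟩
  · have h6 : α * y * l * star (α * y) = 0 := by
      rw [h.star_mm hB h1 h2, mul_assoc α, mm h1' (mul_mem h2 hl), h3, zero_mul]
    convert F.conj_mem hl' (α * y) using 1
    rw [mul_sub, sub_mul, h6, sub_zero]
  · have h6 : star (α * y) * l * (α * y) = 0 := by
      rw [h.star_mm hB h1 h2, mul_assoc (star α), mm h1 (mul_mem h2' hl), h4, zero_mul]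
    convert F.conj_mem hl' (star (α * y)) using 1
    rw [star_star, mul_sub, sub_mul, h6, sub_zero]

theorem mem_Dt_of_S2 {ν ε : A} (hν : ν ∈ B) (hε : ε ∈ B) (s : S2 ν ε) {π₀ : A} (hπ₀ : Sy B π₀) (h0 : π₀ ≠ 0)
    (h1 : π₀ ≠ 1) : sqU ν s.sq ∈ Dt F B (h.t.star_mem B hB) := by
  have hε' := h.t.star_mem B hB ε hε
  have hsq : ∀ c ∈ Cz B, ∀ d, ν * c * (ν * d) = 0 := fun c hc d => by rw [mm hν hc, s.sq, zero_mul]
  let N : AddSubgroup A :=
    { carrier := {c | c ∈ Cz B ∧ ∃ g ∈ (⁅F.Iso, F.Iso⁆ : Subgroup Aˣ), (g : A) = 1 + ν * c}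
      add_mem' := by
        rintro c d ⟨c1, g, hg, e⟩ ⟨d1, g', hg', e'⟩
        refine ⟨add_mem c1 d1, g * g', mul_mem hg hg', ?_⟩
        rw [Units.val_mul, e, e', add_mul, mul_add, mul_add, hsq c c1]
        noncomm_ring
      zero_mem' := ⟨zero_mem _, 1, one_mem _, by simp⟩
      neg_mem' := by
        rintro c ⟨c1, g, hg, e⟩
        refine ⟨neg_mem c1, g⁻¹, inv_mem hg, (Units.eq_inv_of_mul_eq_one_left ?_).symm⟩
        rw [e, add_mul, mul_add, mul_add, hsq c c1]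
        noncomm_ring }
  have k1 : ∀ y ∈ Cz B, ∀ y' ∈ Cz B, y' * y' = 0 → y' * y = 0 → y' * star y + y * star y' ∈ N := by
    intro y hy y' hy' e1 e2
    have hy1 := h.star_Cz hB y hy
    have hy1' := h.star_Cz hB y' hy'
    have e3 : star y * star y' = 0 := by rw [← star_mul, e2, star_zero]
    have n1 := h.nil hB hε hy' s.es s.se (by rw [e1, mul_zero])
    have n2 := h.nil hB hν hy (by rw [s.skew, mul_neg, s.sq, neg_zero]) (by rw [s.skew, neg_mul, s.sq, neg_zero])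
      (by rw [s.sq, zero_mul])
    refine ⟨add_mem (mul_mem hy' hy1) (mul_mem hy hy1'), ⁅n1.unit, n2.unit⁆,
      Subgroup.commutator_mem_commutator n1.unit_mem n2.unit_mem, ?_⟩
    have f1 : ε * y' - star (ε * y') = ε * y' - star ε * star y' := by rw [h.star_mm hB hε hy']
    have f2 : ν * y - star (ν * y) = ν * (y + star y) := by rw [h.star_mm hB hν hy, s.skew]; noncomm_ring
    have f3 : (ε * y' - star ε * star y') * (ν * (y + star y)) = ν * (y' * star y) := by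
      rw [sub_mul, mm hν hy', mm hν hy1', s.en, s.sn, zero_mul, sub_zero, mul_add, e2, zero_add]
    have f4 : ∀ c ∈ Cz B, ν * c * (ε * y' - star ε * star y') = -(ν * (c * star y')) := fun c hc => by
      rw [mul_sub, mm hε hc, mm hε' hc, s.nE, s.ns, zero_mul, zero_sub]
    have f5 := n1.sq
    change (1 + (ε * y' - star (ε * y'))) * (1 + (ν * y - star (ν * y))) * (1 - (ε * y' - star (ε * y'))) *
      (1 - (ν * y - star (ν * y))) = _
    rw [f1] at f5
    rw [f1, f2, comm_val f5 (hsq _ (add_mem hy hy1) _) (by rw [f3, f4 _ (mul_mem hy' hy1), mul_assoc, e3]; simp)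
      (by rw [mul_assoc, f3, hsq _ (add_mem hy hy1)]), f3, f4 _ (add_mem hy hy1), add_mul, e3]
    noncomm_ring
  have k2 : ∀ π, Sy B π → π ≠ 1 → π ∈ N := by
    intro π hπ hπ1
    let I : AddSubgroup A :=
      { carrier := {x | x ∈ Cz B ∧ ∀ a ∈ Cz B, ∀ b ∈ Cz B, π * a * x * b * π + star (π * a * x * b * π) ∈ N}
        add_mem' := fun {x y} hx hy => ⟨add_mem hx.1 hy.1, fun a ha b hb => by
          convert N.add_mem (hx.2 a ha b hb) (hy.2 a ha b hb) using 1
          simp only [mul_add, add_mul, star_add]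
          abel⟩
        zero_mem' := ⟨zero_mem _, fun a _ b _ => by simp⟩
        neg_mem' := fun {x} hx => ⟨neg_mem hx.1, fun a ha b hb => by
          convert N.neg_mem (hx.2 a ha b hb) using 1
          simp only [mul_neg, neg_mul, star_neg]
          abel⟩ }
    have e0 : (1 - π) * π = 0 := by rw [sub_mul, one_mul, hπ.idem, sub_self]
    rcases Blk.ss_elim _ (h.ss_Cz hB) I (fun _ hx => hx.1)
      (fun x hx a ha => ⟨mul_mem (show a ∈ Cz B from ha) hx.1, fun a' ha' b hb => by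
        have h2 := hx.2 _ (mul_mem ha' (show a ∈ Cz B from ha)) b hb
        simpa only [mul_assoc] using h2⟩)
      (fun x hx => ⟨h.star_Cz hB x hx.1, fun a ha b hb => by
        have h2 := hx.2 _ (h.star_Cz hB b hb) _ (h.star_Cz hB a ha)
        rw [add_comm] at h2
        simpa only [star_mul, star_star, hπ.symm, mul_assoc] using h2⟩) with h2 | h2
    · have h3 : 1 - π ∈ I := ⟨hπ.compl.mem, fun a ha b hb => by
        have h4 := k1 (π * star b * (1 - π)) (mul_mem (mul_mem hπ.mem (h.star_Cz hB b hb)) hπ.compl.mem)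
          (π * a * (1 - π)) (mul_mem (mul_mem hπ.mem ha) hπ.compl.mem)
          (by rw [mul_assoc, ← mul_assoc (1 - π), ← mul_assoc (1 - π), e0]; simp)
          (by rw [mul_assoc, ← mul_assoc (1 - π), ← mul_assoc (1 - π), e0]; simp)
        have h5 : ∀ x, (1 - π) * ((1 - π) * x) = (1 - π) * x := fun x => by rw [← mul_assoc, hπ.compl.idem]
        simpa only [star_mul, star_star, hπ.symm, hπ.compl.symm, mul_assoc, h5] using h4⟩
      rw [h2] at h3
      exact absurd (sub_eq_zero.1 h3).symm hπ1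
    · obtain ⟨l, hl, hl', -⟩ := h.exists_l hB
      have h3 := h2.2 l hl 1 (one_mem _)
      change π * l * 1 * 1 * π + star (π * l * 1 * 1 * π) ∈ N at h3
      rwa [mul_one, mul_one, star_mul, star_mul, hπ.symm, ← mul_assoc π, ← add_mul, ← mul_add, hl', mul_one,
        hπ.idem] at h3
  refine ⟨add_mem (one_mem _) hν, ?_, fun π hπ => ?_⟩
  · change (1 + ν) * star (1 + ν) = 1
    rw [star_add, star_one, s.skew, ← sub_eq_add_neg]
    exact (sqU ν s.sq).val_inv
  · have h2 : π ∈ N := by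
      by_cases e : π = 1
      · have h3 := N.add_mem (k2 _ hπ₀ h1) (k2 _ hπ₀.compl fun e => h0 (sub_eq_self.1 e))
        rwa [add_sub_cancel, ← e] at h3
      · exact k2 π hπ e
    obtain ⟨-, g, hg, e⟩ := h2
    refine ⟨g, hg, ?_⟩
    change _ = (1 + ν) * π + 1 * (1 - π)
    rw [e]
    noncomm_ring

theorem mem_Dt_comm {a b : Aˣ} (ha : (a : A) ∈ B) (hb : (b : A) ∈ B) (ha' : (a : A) * star (a : A) = 1)
    (hb' : (b : A) * star (b : A) = 1) : ⁅a, b⁆ ∈ Dt F B (h.t.star_mem B hB) := by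
  have ha1 := h.t.star_mem B hB _ ha
  have hb1 := h.t.star_mem B hB _ hb
  have e : ((⁅a, b⁆ : Aˣ) : A) = a * b * star (a : A) * star (b : A) := by
    rw [← star_eq_inv ha', ← star_eq_inv hb']; rfl
  refine ⟨e ▸ mul_mem (mul_mem (mul_mem ha hb) ha1) hb1, ?_, fun π hπ => ?_⟩
  · exact (FR.comm_le_Iso (F := F.max)
      (Subgroup.commutator_mem_commutator (mem_Iso_max rfl ha') (mem_Iso_max rfl hb'))).1
  · obtain ⟨g, hg, e1⟩ := h.exists_g hB hπ ha ha'
    obtain ⟨g', hg', e2⟩ := h.exists_g hB hπ hb hb'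
    refine ⟨⁅g, g'⁆, Subgroup.commutator_mem_commutator hg hg', ?_⟩
    have h1 : star (1 : A) ∈ B := by rw [star_one]; exact one_mem _
    change (g : A) * g' * (g⁻¹ : Aˣ) * (g'⁻¹ : Aˣ) = _
    rw [FR.Iso.inv_eq hg, FR.Iso.inv_eq hg', e1, e2, hπ.star_cb ha1 h1, hπ.star_cb hb1 h1, star_one,
      hπ.cb_mul _ _ hb (one_mem _), hπ.cb_mul _ _ ha1 (one_mem _), hπ.cb_mul _ _ hb1 (one_mem _), e]
    simp only [mul_one]

theorem Dt_le {s : Aˣ} (hs : s ∈ Dt F B (h.t.star_mem B hB)) : s ∈ (⁅F.Iso, F.Iso⁆ : Subgroup Aˣ) := by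
  obtain ⟨g, hg, e⟩ := hs.2.2 1 (Sy.one B)
  rwa [← Units.ext (e.trans (by simp [cb]) : (g : A) = s)]

theorem fix {s : Aˣ} (hs : (s : A) ∈ B) {B' : Subring A} (hB' : B' ∈ 𝓑) (hne : B' ≠ B) :
    cA A s ∈ DS.Cl.Fix (B' : Set A) := fun x hx => cj_eq_of_mul (h.t.comm B' hB' B hB hne x hx s hs).symm

theorem pt {s : Aˣ} (hs : s ∈ Dt F B (h.t.star_mem B hB)) : cA A s ∈ ptStab (RingAut A) 𝓑 := by
  intro B' hB'
  by_cases e : B' = B
  · subst e
    have h1 := (inv_mem hs).1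
    exact smul_eq_of_inv (fun x hx => mul_mem (mul_mem hs.1 hx) h1) fun x hx => mul_mem (mul_mem h1 hx) hs.1
  · exact smul_eq_of_fix (h.fix hB hs.1 hB' e)

variable {G H : Subgroup (RingAut A)} {m p : ℕ} (c : Ctx F G H m p) (hst : ∀ γ ∈ H, ∀ B ∈ 𝓑, γ • B ∈ 𝓑)
include c hst

theorem stab_eq {y : Aˣ} (hy : y ∈ Dt F B (h.t.star_mem B hB)) (hc : (y : A) ∉ Subring.center A) :
    G ⊓ setStab (RingAut A) 𝓑 = H := by
  refine c.max (le_inf c.H_le (le_setStab hst)) inf_le_left fun hS => hc (cj_eq_one_iff.1 ?_)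
  have h1 : cA A y ∈ F.S := ⟨y, h.Dt_le hB hy, rfl⟩
  obtain ⟨B', hB', hne⟩ := h.t.exists_ne hB
  by_cases hK : F.S ≤ ptStab (RingAut A) 𝓑
  · refine inf_eq_bot_of_simple c.simple (K := DS.Cl.Fix (B' : Set A)) (fun s hs k hk x hx => ?_) (fun hle => ?_) _ h1
      (h.fix hB hy.1 hB' hne)
    · rw [ra_mul, ra_mul, hk _ (mem_smul_subring.1 ((hK hs B' hB').symm ▸ hx)), ra_apply_inv]
    · exact h.t.not_le B' hB' fun z hz => FR.cen_of_S c.span fun s hs => hle hs z hz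
  · exact inf_eq_bot_of_simple c.simple (fun s hs k hk => conj_mem_ptStab (hS hs).2 hk) hK _ h1 (h.pt hB hy)

theorem sub {y : Aˣ} (hy : y ∈ Dt F B (h.t.star_mem B hB)) (hc : (y : A) ∉ Subring.center A) :
    (∀ a ∈ H, ∀ x ∈ H ⊓ ptStab (RingAut A) 𝓑, a * x * a⁻¹ ∈ H ⊓ ptStab (RingAut A) 𝓑) ∧
    (Dt F B (h.t.star_mem B hB)).map (cA A) ≤ H ⊓ ptStab (RingAut A) 𝓑 ∧
    ∀ a ∈ H ⊓ ptStab (RingAut A) 𝓑, ∀ x ∈ (Dt F B (h.t.star_mem B hB)).map (cA A),
      a * x * a⁻¹ ∈ (Dt F B (h.t.star_mem B hB)).map (cA A) := by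
  refine ⟨fun a ha x hx => ⟨H.mul_mem (H.mul_mem ha hx.1) (H.inv_mem ha), conj_mem_ptStab (le_setStab hst ha) hx.2⟩, ?_, ?_⟩
  · rintro _ ⟨s, hs, rfl⟩
    refine ⟨?_, h.pt hB hs⟩
    rw [← h.stab_eq hB c hst hy hc]
    exact ⟨c.S_le ⟨s, h.Dt_le hB hs, rfl⟩,
      le_setStab (P := ptStab (RingAut A) 𝓑) (fun g hg B hB => by rwa [hg B hB]) (h.pt hB hs)⟩
  · rintro γ hγ _ ⟨s, hs, rfl⟩
    have h1 := c.le_SAut hγ.1
    refine ⟨um γ s, ⟨?_, ?_, fun π hπ => ?_⟩, (conj_cj γ s).symm⟩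
    · exact hγ.2 B hB ▸ apply_mem_smul.2 hs.1
    · rw [um_val, ← h1, ← map_mul, hs.2.1, map_one]
    · obtain ⟨g, hg, e⟩ := hs.2.2 _ (hπ.map (inv_mem h1) ((inv_mem hγ).2 B hB))
      refine ⟨um γ g, FR.um_mem_comm (c.H_le_Aut hγ.1) hg, ?_⟩
      rw [um_val, um_val, e, cb, cb, map_add, map_mul, map_mul, map_sub, map_one, ra_apply_inv]

/-- no non-central `p`-element in `Dt F B` if a proper symmetric idempotent commutes with `B` -/
theorem no_idem {π : A} (hπ : Sy B π) (h0 : π ≠ 0) (h1 : π ≠ 1) {y : Aˣ} (hy : y ∈ Dt F B (h.t.star_mem B hB))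
    (hc : (y : A) ∉ Subring.center A) {k : ℕ} (hk : y ^ p ^ k = 1) : False := by
  obtain ⟨h2, h3, h4⟩ := h.sub hB c hst hy hc
  refine hc (cj_eq_one_iff.1 (grp c inf_le_left h2 h3 h4 ?_ ⟨y, hy, rfl⟩ (k := k) (by rw [← map_pow, hk, map_one])))
  rintro _ ⟨s, hs, rfl⟩
  obtain ⟨g, hg, e⟩ := hs.2.2 π hπ
  refine ⟨cA A g, c.S_le ⟨g, hg, rfl⟩, ?_⟩
  rintro _ ⟨x, hx, rfl⟩ h5
  rw [← map_inv, ← map_mul, ← map_mul] at h5
  have h6 := mul_mem (mul_mem (inv_mem hs) hx) hs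
  have h7 := h.key hB hπ h0 h1 h6.1 (inv_mem h6).1 hx.1 (inv_mem hx).1 (z := g⁻¹ * x * g) (by
    rw [Units.val_mul, Units.val_mul, FR.Iso.inv_eq (FR.comm_le_Iso hg), e,
      hπ.star_cb (h.t.star_mem B hB _ hs.1) (by rw [star_one]; exact one_mem _), star_one, ← star_eq_inv hs.2.1]
    conv_lhs => rw [← cb_self π x]
    rw [hπ.cb_mul _ _ hx.1 hx.1, hπ.cb_mul _ _ hs.1 (one_mem _), one_mul, mul_one]
    rfl) (hst _ h5 B hB)
  rw [map_mul, map_mul, map_inv] at h7
  conv_lhs => rw [← h7]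
  group

/-- **UNI** for a `p`-element of `Dt F B` -/
theorem uniD {y : Aˣ} (hy : y ∈ Dt F B (h.t.star_mem B hB)) (hc : (y : A) ∉ Subring.center A) (hk : y ^ p = 1)
    {g : Aˣ} (hg : g ∈ (⁅F.Iso, F.Iso⁆ : Subgroup Aˣ)) :
    ∃ b ∈ Dt F B (h.t.star_mem B hB), cA A (g⁻¹ * (b * y * b⁻¹) * g) ∈ H := by
  obtain ⟨h2, h3, h4⟩ := h.sub hB c hst hy hc
  have hY : IsPGroup p (Subgroup.zpowers (cA A y)) := by
    rintro ⟨_, j, rfl⟩
    refine ⟨1, Subtype.ext ?_⟩
    change (cA A y ^ j) ^ p ^ 1 = 1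
    rw [pow_one, ← zpow_natCast, ← zpow_mul, mul_comm, zpow_mul, zpow_natCast, ← map_pow, hk, map_one, one_zpow]
  obtain ⟨_, ⟨b, hb, rfl⟩, h5⟩ := c.uni inf_le_left h2 h3 h4 hY (Subgroup.zpowers_le.2 ⟨y, hy, rfl⟩)
    (c.S_le (show cA A g ∈ F.S from ⟨g, hg, rfl⟩))
  refine ⟨b, hb, ?_⟩
  rw [map_mul, map_mul, map_mul, map_mul, map_inv, map_inv]
  exact mem_cj.1 (h5 ⟨_, Subgroup.mem_zpowers _, rfl⟩)

omit c in
/-- if the skew elements of a factor commute, they are central -/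
theorem skew_cen (hH : H ≤ SAut A) (hI : ∀ Z : Subring A, ComSub Z → Inv H Z → Z ≤ Subring.center A)
    (hc : ∀ x ∈ B, ∀ y ∈ B, star x = -x → star y = -y → x * y = y * x) {x : A} (hx : x ∈ B) (hs : star x = -x) :
    x ∈ Subring.center A := by
  let X : Set A := {x | x ∈ Subring.center A ∨ ∃ B ∈ 𝓑,
    (∀ x ∈ B, ∀ y ∈ B, star x = -x → star y = -y → x * y = y * x) ∧ x ∈ B ∧ star x = -x}
  have h1 : ∀ x ∈ X, ∀ y ∈ X, x * y = y * x := by
    rintro x (hx | ⟨B₁, a1, a2, a3, a4⟩) y hy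
    · exact (cen_comm hx y).symm
    rcases hy with hy | ⟨B₂, b1, -, b3, b4⟩
    · exact cen_comm hy x
    by_cases e : B₁ = B₂
    · exact a2 x a3 y (e ▸ b3) a4 b4
    · exact h.t.comm _ a1 _ b1 e x a3 y b3
  refine hI (Subring.closure X) ⟨fun z hz => Subring.subset_closure (Or.inl hz), fun z hz => ?_, fun y hy z hz => ?_⟩
    (fun γ hγ z hz => ?_) (Subring.subset_closure (Or.inr ⟨B, hB, hc, hx, hs⟩))
  · induction hz using Subring.closure_induction with
    | mem z hz =>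
      rcases hz with hz | ⟨B₁, a1, a2, a3, a4⟩
      · exact Subring.subset_closure (Or.inl (star_cen hz))
      · rw [a4]; exact neg_mem (Subring.subset_closure (Or.inr ⟨B₁, a1, a2, a3, a4⟩))
    | zero => rw [star_zero]; exact zero_mem _
    | one => rw [star_one]; exact one_mem _
    | add a b _ _ ha hb => rw [star_add]; exact add_mem ha hb
    | neg a _ ha => rw [star_neg]; exact neg_mem ha
    | mul a b _ _ ha hb => rw [star_mul]; exact mul_mem hb ha
  · have h2 : Subring.closure X ≤ Subring.centralizer X := Subring.closure_le.2 fun a ha b hb => h1 b hb a ha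
    have h3 : Subring.closure X ≤ Subring.centralizer {y} := Subring.closure_le.2 fun a ha b hb => by
      rw [Set.mem_singleton_iff.1 hb]; exact (h2 hy a ha).symm
    exact h3 hz y rfl
  · have h2 : Subring.closure X ≤ (Subring.closure X).comap (γ : A →+* A) := Subring.closure_le.2 (by
      rintro a (ha | ⟨B₁, a1, a2, a3, a4⟩)
      · exact Subring.subset_closure (Or.inl (map_cen γ ha))
      · refine Subring.subset_closure (Or.inr ⟨γ • B₁, hst γ hγ B₁ a1, fun x hx y hy x1 y1 => ?_,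
          apply_mem_smul.2 a3, ?_⟩)
        · have h3 := hH (inv_mem hγ)
          apply (γ⁻¹).injective
          rw [map_mul, map_mul]
          exact a2 _ (mem_smul_subring.1 hx) _ (mem_smul_subring.1 hy) (by rw [← h3, x1, map_neg])
            (by rw [← h3, y1, map_neg])
        · change star (γ a) = -γ a
          rw [← hH hγ, a4, map_neg])
    exact h2 hz

end TD

end Cfsg.Agent.TH.Cl.Ten
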