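import Cfsg.Agent.TH.Cl.Basic
import Cfsg.Agent.DS.Cl.Ten
import Cfsg.Agent.H427.CsQuot

/-!
# S3541, tensor decompositions: the elements `s π + (1 - π)` (helper94)

`B` is a factor, `π` a symmetric idempotent commuting with `B`.  An element `y` of the unitary group of `B` which
permutes the factors after conjugation with `g = s π + (1 - π)` commutes with `s`.  So the group `Dt F B` has no
non-central `p`-element.
-/

set_option autoImplicit false
set_option linter.unusedSectionVars false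

namespace Cfsg.Agent.TH.Cl.Ten

open Cfsg.Agent.DS.Cl Cfsg.Agent.DS.Cl.Fwd Cfsg.Agent.SB.Cl
open scoped Pointwise commutatorElement

local notation "cA" => Cfsg.Agent.DS.Cl.cj

variable {A : Type} [Ring A] [StarRing A] [Finite A]

/-- if every element of `D` centralises the stabiliser in `D` of some point, `D` has no `p`-elements -/
theorem grp {F : FR A} {G H : Subgroup (RingAut A)} {m p : ℕ} (c : Ctx F G H m p) {M D : Subgroup (RingAut A)}
    (hM : M ≤ H) (hMn : ∀ a ∈ H, ∀ x ∈ M, a * x * a⁻¹ ∈ M) (hD : D ≤ M) (hDn : ∀ a ∈ M, ∀ x ∈ D, a * x * a⁻¹ ∈ D)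
    (h : ∀ s ∈ D, ∃ g ∈ G, ∀ y ∈ D, g⁻¹ * y * g ∈ H → s * y = y * s) {y : RingAut A} (hy : y ∈ D) {k : ℕ}
    (hk : y ^ p ^ k = 1) : y = 1 := by
  have hY : IsPGroup p (Subgroup.zpowers y) := by
    rintro ⟨_, j, rfl⟩
    refine ⟨k, Subtype.ext ?_⟩
    change (y ^ j) ^ p ^ k = 1
    rw [← zpow_natCast, ← zpow_mul, mul_comm, zpow_mul, zpow_natCast, hk, one_zpow]
  have h1 : ∀ g ∈ G, ∃ b ∈ D, g⁻¹ * (b * y * b⁻¹) * g ∈ H := fun g hg => by
    obtain ⟨b, hb, h2⟩ := c.uni hM hMn hD hDn hY (Subgroup.zpowers_le.2 hy) hg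
    exact ⟨b, hb, mem_cj.1 (h2 ⟨y, Subgroup.mem_zpowers y, rfl⟩)⟩
  have h2 := H427.Cs.eq_top_of_cover ((Subgroup.centralizer {y}).subgroupOf D) fun s => by
    obtain ⟨g, hg, h3⟩ := h s s.2
    obtain ⟨b, hb, h4⟩ := h1 g hg
    have h5 := h3 _ (mul_mem (mul_mem hb hy) (inv_mem hb)) h4
    refine ⟨⟨b, hb⟩, Subgroup.mem_centralizer_singleton_iff.2 ?_⟩
    change b⁻¹ * s * b * y = y * (b⁻¹ * s * b)
    calc b⁻¹ * s * b * y = b⁻¹ * (s * (b * y * b⁻¹)) * b := by group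
      _ = y * (b⁻¹ * s * b) := by rw [h5]; group
  by_contra hne
  obtain ⟨g, hg, -, h3⟩ := c.in.exists_not_le (N := Subgroup.zpowers y) (fun e => hne (Subgroup.zpowers_eq_bot.1 e))
    (Subgroup.zpowers_le.2 (hM (hD hy)))
  obtain ⟨b, hb, h4⟩ := h1 g hg
  have h5 : (⟨b, hb⟩ : D) ∈ (Subgroup.centralizer {y}).subgroupOf D := h2 ▸ Subgroup.mem_top _
  have h6 : b * y = y * b := Subgroup.mem_centralizer_singleton_iff.1 h5
  rw [h6, mul_inv_cancel_right] at h4
  exact h3 (Subgroup.zpowers_le.2 (mem_cj.2 h4))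

/-- the centraliser of a subring -/
abbrev Cz (B : Subring A) : Subring A := Subring.centralizer (B : Set A)

/-- a symmetric idempotent commuting with `B` -/
structure Sy (B : Subring A) (π : A) : Prop where
  mem : π ∈ Cz B
  symm : star π = π
  idem : π * π = π

theorem Sy.compl {B : Subring A} {π : A} (h : Sy B π) : Sy B (1 - π) :=
  ⟨sub_mem (one_mem _) h.mem, by rw [star_sub, star_one, h.symm], by rw [sub_mul, one_mul, mul_sub, mul_one, h.idem]; simp⟩

theorem Sy.one (B : Subring A) : Sy B 1 := ⟨one_mem _, star_one A, mul_one 1⟩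

theorem Sy.map {B : Subring A} {π : A} (h : Sy B π) {γ : RingAut A} (hγ : γ ∈ SAut A) (hB : γ • B = B) :
    Sy B (γ π) := by
  refine ⟨fun x hx => ?_, by rw [← hγ, h.symm], by rw [← map_mul, h.idem]⟩
  have h1 : γ⁻¹ x ∈ B := mem_smul_subring.1 (hB.symm ▸ hx)
  rw [← ra_apply_inv γ x, ← map_mul, ← map_mul, h.mem _ h1]

/-- `a` on the range of `π`, `b` on the kernel -/
def cb (π a b : A) : A := a * π + b * (1 - π)

theorem cb_self (π a : A) : cb π a a = a := by rw [cb, ← mul_add, add_sub_cancel, mul_one]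

theorem Sy.cb_mul {B : Subring A} {π : A} (h : Sy B π) (a b : A) {a' b' : A} (ha : a' ∈ B) (hb : b' ∈ B) :
    cb π a b * cb π a' b' = cb π (a * a') (b * b') := by
  have h1 := h.mem a' ha
  have h2 := h.mem b' hb
  have h3 : π * (a' * π) = a' * π := by rw [← mul_assoc, ← h1, mul_assoc, h.idem]
  have h4 : π * (b' * π) = b' * π := by rw [← mul_assoc, ← h2, mul_assoc, h.idem]
  simp only [cb, mul_add, add_mul, mul_sub, sub_mul, mul_one, mul_assoc, h3, h4, ← h2]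
  abel

theorem Sy.star_cb {B : Subring A} {π : A} (h : Sy B π) {a b : A} (ha : star a ∈ B) (hb : star b ∈ B) :
    star (cb π a b) = cb π (star a) (star b) := by
  rw [cb, cb, star_add, star_mul, star_mul, h.symm, h.compl.symm, h.mem _ ha, h.compl.mem _ hb]

theorem Sy.cb_left {B : Subring A} {π : A} (h : Sy B π) (a b : A) : cb π a b * π = a * π := by
  rw [cb, add_mul, mul_assoc, mul_assoc, h.idem, sub_mul, one_mul, h.idem, sub_self, mul_zero, add_zero]

theorem Sy.cb_right {B : Subring A} {π : A} (h : Sy B π) (a b : A) : cb π a b * (1 - π) = b * (1 - π) := by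
  rw [cb, add_mul, mul_assoc, mul_assoc, h.compl.idem, mul_sub π, mul_one, h.idem, sub_self, mul_zero, zero_add]

/-- a tensor decomposition compatible with the form -/
structure TD (F : FR A) (𝓑 : Set (Subring A)) : Prop where
  ss : SS A
  t : Tens 𝓑
  l : ∀ B ∈ 𝓑, ∃ l ∈ B, l + star l = 1
  cong : ∀ B ∈ 𝓑, ∀ x ∈ B, x + star x = 1 → F.l - x ∈ F.L

theorem iso_of_cong {F : FR A} {x : A} (hx : F.l - x ∈ F.L) {u : Aˣ} (h1 : (u : A) * star (u : A) = 1)
    (h2 : u * x * star (u : A) - x ∈ F.L) : u ∈ F.Iso := by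
  refine ⟨h1, ?_⟩
  convert F.L.sub_mem (F.L.add_mem (F.conj_mem hx u) h2) hx using 1
  noncomm_ring

/-- the unitary elements of `B` all of whose restrictions `s π + (1 - π)` lie in the commutator group -/
def Dt (F : FR A) (B : Subring A) (hs : ∀ x ∈ B, star x ∈ B) : Subgroup Aˣ where
  carrier := {s | (s : A) ∈ B ∧ (s : A) * star (s : A) = 1 ∧
    ∀ π, Sy B π → ∃ g ∈ (⁅F.Iso, F.Iso⁆ : Subgroup Aˣ), (g : A) = cb π s 1}
  one_mem' := ⟨one_mem _, by simp, fun π _ => ⟨1, one_mem _, (cb_self π 1).symm⟩⟩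
  mul_mem' := by
    rintro s t ⟨s1, s2, s3⟩ ⟨t1, t2, t3⟩
    refine ⟨mul_mem s1 t1, ?_, fun π hπ => ?_⟩
    · rw [Units.val_mul, star_mul, mul_assoc, ← mul_assoc (t : A), t2, one_mul, s2]
    · obtain ⟨g, hg, e⟩ := s3 π hπ
      obtain ⟨g', hg', e'⟩ := t3 π hπ
      exact ⟨g * g', mul_mem hg hg', by rw [Units.val_mul, e, e', hπ.cb_mul _ _ t1 (one_mem _), mul_one]; rfl⟩
  inv_mem' := by
    rintro s ⟨s1, s2, s3⟩
    refine ⟨by rw [star_eq_inv s2]; exact hs _ s1, by rw [star_eq_inv s2, star_star, ← star_eq_inv s2, Units.inv_mul],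
      fun π hπ => ?_⟩
    obtain ⟨g, hg, e⟩ := s3 π hπ
    refine ⟨g⁻¹, inv_mem hg, ?_⟩
    rw [FR.Iso.inv_eq (FR.comm_le_Iso hg), e, hπ.star_cb (hs _ s1) (by rw [star_one]; exact one_mem _), star_one,
      star_eq_inv s2]

namespace TD

variable {F : FR A} {𝓑 : Set (Subring A)} (h : TD F 𝓑) {B : Subring A} (hB : B ∈ 𝓑)
include h hB

theorem nzd {r c : A} (hr : r ∈ B) (hc : c ∈ Cz B) (hs : star c = c ∨ star c = -c) (h0 : c ≠ 0) (hrc : r * c = 0) :
    r = 0 := by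
  let I : AddSubgroup A :=
    { carrier := {x | x ∈ B ∧ x * c = 0}
      add_mem' := fun ha hb => ⟨add_mem ha.1 hb.1, by rw [add_mul, ha.2, hb.2, add_zero]⟩
      zero_mem' := ⟨zero_mem _, zero_mul c⟩
      neg_mem' := fun ha => ⟨neg_mem ha.1, by rw [neg_mul, ha.2, neg_zero]⟩ }
  rcases Blk.ss_elim _ (h.t.ss h.ss hB) I (fun _ hx => hx.1)
    (fun x hx a ha => ⟨B.mul_mem ha hx.1, by rw [mul_assoc, hx.2, mul_zero]⟩) (fun x hx => by
      have h1 := h.t.star_mem B hB x hx.1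
      refine ⟨h1, ?_⟩
      have h2 := congrArg star hx.2
      rw [star_mul, star_zero] at h2
      rw [hc _ h1]
      rcases hs with hs | hs <;> rw [hs] at h2
      · exact h2
      · rwa [neg_mul, neg_eq_zero] at h2) with h1 | h1
  · have h2 : r ∈ I := ⟨hr, hrc⟩
    rwa [h1] at h2
  · exact absurd ((one_mul c).symm.trans h1.2) h0

theorem le_Cz {B' : Subring A} (hB' : B' ∈ 𝓑) (hne : B' ≠ B) : B' ≤ Cz B := fun y hy x hx =>
  h.t.comm B hB B' hB' hne.symm x hx y hy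

theorem exists_l : ∃ l ∈ Cz B, l + star l = 1 ∧ F.l - l ∈ F.L := by
  obtain ⟨B', hB', hne⟩ := h.t.exists_ne hB
  obtain ⟨l, hl, hl'⟩ := h.l B' hB'
  exact ⟨l, h.le_Cz hB hB' hne hl, hl', h.cong B' hB' l hl hl'⟩

theorem star_Cz : ∀ x ∈ Cz B, star x ∈ Cz B := star_centralizer (h.t.star_mem B hB)

theorem ss_Cz : SS (Blk.ofSubring (Cz B) (h.star_Cz hB)).T := by
  obtain ⟨B', hB', hne⟩ := h.t.exists_ne hB
  have h1 : B ≠ Cz B := fun e => h.t.not_le B hB fun z hz => h.t.cen_blk hB hz fun y hy => (e ▸ hz : z ∈ Cz B) y hy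
  have h2 : Tens {B, Cz B} := by
    refine ⟨Set.nontrivial_pair h1, ?_, ?_, ?_, ?_, ?_⟩
    · rintro _ (rfl | rfl)
      · exact h.t.cen_le _ hB
      · exact fun z hz y _ => cen_comm hz y
    · rintro _ (rfl | rfl)
      · exact h.t.not_le _ hB
      · exact fun e => h.t.not_le B' hB' ((h.le_Cz hB hB' hne).trans e)
    · rintro _ (rfl | rfl)
      · exact h.t.star_mem _ hB
      · exact h.star_Cz hB
    · rintro _ (rfl | rfl) _ (rfl | rfl) hn x hx y hy
      · exact absurd rfl hn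
      · exact hy x hx
      · exact (hx y hy).symm
      · exact absurd rfl hn
    · rw [eq_top_iff]
      intro a _
      refine h.t.ind (fun B'' hB'' x hx => Subring.subset_closure ?_) a
      simp only [Set.mem_iUnion]
      by_cases e : B'' = B
      · exact ⟨B, Or.inl rfl, e ▸ hx⟩
      · exact ⟨Cz B, Or.inr rfl, h.le_Cz hB hB'' e hx⟩
  exact h2.ss h.ss (Or.inr rfl)

/-- `s π + (1 - π)` is an isometry -/
theorem exists_g {π s : A} (hπ : Sy B π) (hs : s ∈ B) (h1 : s * star s = 1) : ∃ g ∈ F.Iso, (g : A) = cb π s 1 := by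
  have hs' := h.t.star_mem B hB s hs
  have h2 : star (cb π s 1) = cb π (star s) 1 := by
    rw [hπ.star_cb hs' (by rw [star_one]; exact one_mem _), star_one]
  have h3 : cb π s 1 * star (cb π s 1) = 1 := by rw [h2, hπ.cb_mul _ _ hs' (one_mem _), h1, mul_one, cb_self]
  obtain ⟨x, hx, hx'⟩ := h.l B hB
  obtain ⟨l, hl, hl', -⟩ := h.exists_l hB
  refine ⟨mkU _ h3, iso_of_cong (h.cong B hB x hx hx') h3 ?_, rfl⟩
  have h4 : cb π s 1 * x * star (cb π s 1) - x = (s * x * star s - x) * π := by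
    rw [h2]
    conv_lhs => rw [← cb_self π x]
    rw [hπ.cb_mul _ _ hx hx, hπ.cb_mul _ _ hs' (one_mem _), cb, cb]
    noncomm_ring
  have h5 : s * x * star s - x ∈ B := sub_mem (mul_mem (mul_mem hs hx) hs') hx
  have h6 : star (s * x * star s - x) = -(s * x * star s - x) := by
    rw [star_sub, star_mul, star_mul, star_star, eq_sub_of_add_eq' hx', sub_mul, one_mul, mul_sub, h1]
    noncomm_ring
  rw [mkU_val, h4]
  generalize s * x * star s - x = σ at h5 h6
  convert F.sub_star_mem (σ * (π * l * π)) using 1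
  rw [star_mul, h6, mul_neg, sub_neg_eq_add, ← h.star_Cz hB _ (mul_mem (mul_mem hπ.mem hl) hπ.mem) σ h5, star_mul,
    star_mul, hπ.symm, ← mul_add, ← mul_assoc π, ← add_mul, ← mul_add, hl', mul_one, hπ.idem]

/-- **the key lemma** -/
theorem key {π : A} (hπ : Sy B π) (h0 : π ≠ 0) (h1 : π ≠ 1) {z a b : Aˣ} (ha : (a : A) ∈ B)
    (ha' : ((a⁻¹ : Aˣ) : A) ∈ B) (hb : (b : A) ∈ B) (hb' : ((b⁻¹ : Aˣ) : A) ∈ B) (hz : (z : A) = cb π a b)
    (hz' : cA A z • B ∈ 𝓑) : cA A a = cA A b := by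
  have h2 : ((z⁻¹ : Aˣ) : A) = cb π (a⁻¹ : Aˣ) (b⁻¹ : Aˣ) :=
    (Units.eq_inv_of_mul_eq_one_left (by rw [hz, hπ.cb_mul _ _ ha' hb', a.mul_inv, b.mul_inv, cb_self])).symm
  have h3 : ∀ x ∈ B, cA A z x = cb π (cA A a x) (cA A b x) := fun x hx => by
    rw [cj_apply, hz, h2]
    conv_lhs => rw [← cb_self π x]
    rw [hπ.cb_mul _ _ hx hx, hπ.cb_mul _ _ ha' hb', cj_apply, cj_apply]
  have h4 : ∀ {a : Aˣ}, (a : A) ∈ B → ((a⁻¹ : Aˣ) : A) ∈ B → ∀ x ∈ B, cA A a x ∈ B := fun ha ha' x hx =>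
    mul_mem (mul_mem ha hx) ha'
  have h1' : 1 - π ≠ 0 := fun e => h1 (sub_eq_zero.1 e).symm
  by_cases e : cA A z • B = B
  · have h5 : ∀ x ∈ B, cA A a x = cA A b x := fun x hx => by
      have h6 : cA A z x ∈ B := e ▸ apply_mem_smul.2 hx
      have h7 := h.nzd hB (sub_mem h6 (h4 ha ha' x hx)) hπ.mem (Or.inl hπ.symm) h0 (by
        rw [sub_mul, h3 x hx, hπ.cb_left, sub_self])
      have h8 := h.nzd hB (sub_mem h6 (h4 hb hb' x hx)) hπ.compl.mem (Or.inl hπ.compl.symm) h1' (by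
        rw [sub_mul, h3 x hx, hπ.cb_right, sub_self])
      rw [← sub_eq_zero.1 h7, sub_eq_zero.1 h8]
    refine cj_eq_iff.2 ⟨b⁻¹ * a, h.t.cen_blk hB (mul_mem hb' ha) fun y hy => ?_, by group⟩
    have h6 := h5 y hy
    rw [cj_apply, cj_apply] at h6
    calc y * ((b⁻¹ * a : Aˣ) : A) = (b⁻¹ : Aˣ) * (b * y * (b⁻¹ : Aˣ)) * a := by simp [mul_assoc]
      _ = ((b⁻¹ * a : Aˣ) : A) * y := by rw [← h6]; simp [mul_assoc]
  · exfalso
    refine h.t.not_le B hB fun x hx => h.t.cen_blk hB hx fun y hy => ?_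
    have h5 := h.t.comm _ hz' B hB e _ (apply_mem_smul.2 hx) _ (h4 hb hb' y hy)
    have h6 : (cA A b (x * y) - cA A b (y * x)) * (1 - π) = 0 := by
      have h7 := congrArg (· * (1 - π)) h5
      simp only [h3 x hx] at h7
      rw [mul_assoc (cA A b y), hπ.cb_right, mul_assoc, hπ.compl.mem _ (h4 hb hb' y hy), ← mul_assoc, hπ.cb_right,
        mul_assoc, ← hπ.compl.mem _ (h4 hb hb' y hy), ← mul_assoc, ← mul_assoc] at h7
      rw [sub_mul, map_mul, map_mul, h7, sub_self]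
    have h7 := h.nzd hB (sub_mem (h4 hb hb' _ (mul_mem hx hy)) (h4 hb hb' _ (mul_mem hy hx))) hπ.compl.mem
      (Or.inl hπ.compl.symm) h1' h6
    exact ((cA A b).injective (sub_eq_zero.1 h7)).symm

end TD

end Cfsg.Agent.TH.Cl.Ten
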