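import Cfsg.Agent.TH.Cl.Ten.Mod

/-!
# S3541, tensor decompositions (helper94)

`no_sy` : no proper symmetric idempotent commutes with a factor; so there are two factors, of type `Sp₂` (`last`), the
space has dimension four and `H` fixes a quadratic form in `Sp₄(2^a)` (`sp4`).
-/

set_option autoImplicit false
set_option linter.unusedSectionVars false

namespace Cfsg.Agent.TH.Cl.Ten

open Cfsg.Agent.DS.Cl Cfsg.Agent.DS.Cl.Fwd Cfsg.Agent.SB.Cl Cfsg.Agent.DS.Cl.NCTV Cfsg.Agent.DS.Cl.P5 Module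
open scoped Pointwise commutatorElement

local notation "cA" => Cfsg.Agent.DS.Cl.cj

variable {A : Type} [Ring A] [StarRing A] [Finite A]

theorem pow_of_cube [Nontrivial A] {p : ℕ} (hp : p.Prime) (h0 : (p : A) = 0) {N : A} (hN : N * N * N = 0) :
    (1 + N) ^ p ^ 2 = 1 := by
  have : Fact p.Prime := ⟨hp⟩
  have : CharP A p := (CharP.charP_iff_prime_eq_zero hp).2 h0
  have h1 : 3 ≤ p ^ 2 := by nlinarith [hp.two_le]
  obtain ⟨k, hk⟩ := Nat.exists_eq_add_of_le h1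
  rw [add_pow_char_pow_of_commute _ _ (Commute.one_left N), one_pow, hk, pow_add, pow_three', hN, zero_mul, add_zero]

/-- the commutator of a reflection with a Siegel element -/
theorem OD.comm {N r h : A} (d : OD N r h) : ∃ a b : Aˣ, (a : A) = r ∧ (b : A) = 1 + N + h * N * N ∧
    (a : A) * star (a : A) = 1 ∧ (b : A) * star (b : A) = 1 ∧ ∃ M : A, M * M * M = 0 ∧ M ≠ 0 ∧
      ((⁅a, b⁆ : Aˣ) : A) = 1 + M := by
  have h1 : ∀ x, x * h = h * x := fun x =>
    calc x * h = (h + h) * x * h := by rw [d.half, one_mul]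
      _ = h * x * (h + h) := by noncomm_ring
      _ = h * x := by rw [d.half, mul_one]
  have h2 : star h = h :=
    calc star h = star h * (h + h) := by rw [d.half, mul_one]
      _ = star (h + h) * h := by rw [star_add]; noncomm_ring
      _ = h := by rw [d.half, star_one, one_mul]
  obtain ⟨P, hP⟩ : ∃ P, P = h * N * N := ⟨_, rfl⟩
  have e1 : P + P = N * N := by rw [hP, ← add_mul, ← add_mul, d.half, one_mul]
  have e2 : P * N = 0 := by rw [hP, mul_assoc, mul_assoc, ← mul_assoc N, d.cube, mul_zero]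
  have e3 : N * P = 0 := by rw [hP, ← mul_assoc, ← mul_assoc, h1, mul_assoc, mul_assoc, ← mul_assoc N, d.cube, mul_zero]
  have e4 : P * P = 0 := by
    conv_lhs => rhs; rw [hP, ← h1 N]
    rw [← mul_assoc, ← mul_assoc, e2, zero_mul, zero_mul]
  have e5 : star (1 + N + P) = 1 - N + P := by
    rw [star_add, star_add, star_one, d.skew, hP, star_mul, star_mul, d.skew, h2, neg_mul (N : A) h,
      neg_mul_neg, h1 N, ← mul_assoc, h1 N, sub_eq_add_neg]
  have e6 : (1 + N + P) * star (1 + N + P) = 1 := by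
    have e : (1 + N + P) * (1 - N + P) = 1 + (P + P) - N * N + N * P - P * N + P * P := by noncomm_ring
    rw [e5, e, e1, e2, e3, e4]
    simp
  have e7 : r * star r = 1 := by rw [d.symm, d.sq]
  have e8 : r * (1 + N + P) * r = 1 - N + P := by
    have e : r * P = P * r := by
      rw [hP, ← mul_assoc, ← mul_assoc, h1, mul_assoc h, d.anti, mul_neg, neg_mul, mul_assoc, mul_assoc, d.anti]
      noncomm_ring
    rw [mul_add, mul_add, e, d.anti, add_mul, add_mul, mul_one, neg_mul, mul_assoc, mul_assoc, d.sq, mul_one, mul_one,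
      sub_eq_add_neg]
  refine ⟨mkU r e7, mkU _ e6, rfl, hP ▸ rfl, e7, e6, (N * N - N) + (N * N - N), ?_, fun h0 => d.ne ?_, ?_⟩
  · have e : (N * N - N + (N * N - N)) * (N * N - N + (N * N - N)) * (N * N - N + (N * N - N)) =
        N * N * N * (8 * ((N - 1) * (N - 1) * (N - 1))) := by noncomm_ring
    rw [e, d.cube, zero_mul]
  · have e : N * N = N := by
      rw [← sub_eq_zero, ← one_mul (N * N - N), ← d.half, add_mul, ← mul_add, h0, mul_zero]
    rw [← d.cube, e, e]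
  · change r * (1 + N + P) * star r * star (1 + N + P) = _
    have e : (1 - N + P) * (1 - N + P) = 1 + (N * N - N) + ((P + P) - N) - N * P - P * N + P * P := by noncomm_ring
    rw [d.symm, e8, e5, e, e1, e2, e3, e4]
    abel

theorem Sp2.idem {ν ε : A} (s : Sp2 ν ε) : ε * ε = ε := by
  conv_rhs => rw [← mul_one ε, ← s.add, mul_add, s.s.es, add_zero]

/-- the torus of a long root `SL₂` -/
theorem torus {F : FR A} (hL : F.L = Lmax A) {ν ε a a' c : A} (s : S2 ν ε) (hε : ε * ε = ε) (ha : a ∈ C0 A)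
    (ha' : a' ∈ C0 A) (h1 : a * a' = 1) (hc : c ∈ C0 A) :
    ∃ g ∈ (⁅F.Iso, F.Iso⁆ : Subgroup Aˣ), (g : A) = 1 + (a * a - 1) * c * ν := by
  have hε' : star ε * star ε = star ε := by rw [← star_mul, hε]
  have h2 : a - 1 ∈ C0 A := sub_mem ha (one_mem _)
  have h3 : a' - 1 ∈ C0 A := sub_mem ha' (one_mem _)
  have h4 : star (1 + (a - 1) * ε + (a' - 1) * star ε) = 1 + (a - 1) * star ε + (a' - 1) * ε := by
    rw [star_add, star_add, star_one, star_mul, star_mul, star_star, h2.2, h3.2, cen_comm h2.1, cen_comm h3.1]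
  have h5 : (a - 1) * (a' - 1) = -(a - 1) - (a' - 1) := by rw [sub_mul, mul_sub, h1]; noncomm_ring
  have h5' : (a' - 1) * (a - 1) = -(a - 1) - (a' - 1) := by rw [cen_comm h2.1, h5]
  have h6 : (1 + (a - 1) * ε + (a' - 1) * star ε) * star (1 + (a - 1) * ε + (a' - 1) * star ε) = 1 := by
    have e : ∀ x y x' y' : A, (1 + x + y) * (1 + x' + y') = 1 + x + y + x' + y' + x * x' + x * y' + y * x' + y * y' :=
      fun x y x' y' => by noncomm_ring
    rw [h4, e, cen_mul_mul h2.1, cen_mul_mul h2.1, cen_mul_mul h3.1, cen_mul_mul h3.1, s.es, s.se, hε, hε', h5, h5']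
    noncomm_ring
  have h7 : c * ν * (c * ν) = 0 := by rw [cen_mul_mul hc.1, s.sq, mul_zero]
  have h8 : star (c * ν) = -(c * ν) := by rw [star_mul, hc.2, s.skew, neg_mul, cen_comm hc.1]
  have h9 : ((sqU _ h7 : Aˣ) : A) * star ((sqU _ h7 : Aˣ) : A) = 1 := by
    change (1 + c * ν) * star (1 + c * ν) = 1
    rw [star_add, star_one, h8, ← sub_eq_add_neg]
    exact (sqU _ h7).val_inv
  refine ⟨⁅mkU _ h6, sqU _ h7⁆, Subgroup.commutator_mem_commutator (mem_Iso_max hL h6) (mem_Iso_max hL h9), ?_⟩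
  have e1 : (1 + (a - 1) * ε + (a' - 1) * star ε) * ν = a * ν := by
    rw [add_mul, add_mul, mul_assoc, mul_assoc, s.en, s.sn]; noncomm_ring
  have e2 : ν * star (1 + (a - 1) * ε + (a' - 1) * star ε) = a * ν := by
    rw [h4, mul_add, mul_add, ← mul_assoc, ← mul_assoc, cen_comm h2.1, cen_comm h3.1, mul_assoc, mul_assoc, s.ns, s.nE]
    noncomm_ring
  change (1 + (a - 1) * ε + (a' - 1) * star ε) * (1 + c * ν) * star (1 + (a - 1) * ε + (a' - 1) * star ε) *
    (1 - c * ν) = _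
  generalize 1 + (a - 1) * ε + (a' - 1) * star ε = u at h6 e1 e2
  have e3 : u * (1 + c * ν) * star u = 1 + a * a * (c * ν) := by
    rw [mul_add, add_mul, mul_one, h6, ← mul_assoc, cen_comm hc.1, mul_assoc c, e1, mul_assoc, mul_assoc, e2,
      ← mul_assoc, ← mul_assoc, ← mul_assoc, cen_comm hc.1 (a * a), mul_assoc c]
  rw [e3, add_mul, mul_sub (a * a * _), mul_assoc (a * a) (c * ν) (c * ν), h7]
  noncomm_ring

/-- a factor of type `Sp₂` -/
structure SpF (B : Subring A) (ν ε : A) : Prop where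
  nm : ν ∈ B
  em : ε ∈ B
  s : Sp2 ν ε
  tr : ∀ x ∈ B, x + star x ∈ Subring.center A

/-- `α` has rank one in `B` -/
def R1 (B : Subring A) (α : A) : Prop := α ∈ B ∧ ∀ x ∈ B, ∃ c ∈ Subring.center A, α * x * α = c * α

theorem SpF.r1 {B : Subring A} {ν ε : A} (s : SpF B ν ε) {α : A} (h1 : α ∈ B) (h2 : star α * α = 0) : R1 B α :=
  ⟨h1, fun x hx => ⟨_, s.tr _ (mul_mem h1 hx), by rw [add_mul, star_mul, mul_assoc (star x), h2, mul_zero, add_zero]⟩⟩

namespace TD

variable {F : FR A} {𝓑 : Set (Subring A)} (h : TD F 𝓑) {G H : Subgroup (RingAut A)} {m p : ℕ} (c : Ctx F G H m p)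
  (hst : ∀ γ ∈ H, ∀ B ∈ 𝓑, γ • B ∈ 𝓑) (hI : ∀ Z : Subring A, ComSub Z → Inv H Z → Z ≤ Subring.center A)
include h c hst hI

theorem no_sy {B : Subring A} (hB : B ∈ 𝓑) {π : A} (hπ : Sy B π) : π = 0 ∨ π = 1 := by
  by_contra hc
  rw [not_or] at hc
  have := h.ss.nontrivial
  obtain ⟨l, hl, hl'⟩ := h.l B hB
  rcases mod (h.t.ss h.ss hB) (h.t.noncomm hB) (l := (h.t.blk hB).mk' l hl) ((h.t.blk hB).val_inj hl') with
    ⟨ν, ε, s⟩ | ⟨N, r, t, d⟩ | ⟨h1, x, h2, h3⟩
  · have s' : S2 ((h.t.blk hB).val ν) ((h.t.blk hB).val ε) := ⟨fun e => s.ne ((h.t.blk hB).val_inj e),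
      congrArg (h.t.blk hB).val s.skew, congrArg (h.t.blk hB).val s.en, congrArg (h.t.blk hB).val s.nE,
      congrArg (h.t.blk hB).val s.es, congrArg (h.t.blk hB).val s.se⟩
    refine h.no_idem hB c hst hπ hc.1 hc.2 (h.mem_Dt_of_S2 hB ((h.t.blk hB).val_mem ν) ((h.t.blk hB).val_mem ε) s' hπ
      hc.1 hc.2) (not_cen h.ss s'.ne ⟨2, by rw [pow_two, s'.sq]⟩) (k := 1) (Units.ext ?_)
    rw [Units.val_pow_eq_pow_val, pow_one]
    exact (one_add_pow s'.sq p).trans (by rw [c.char, zero_mul, add_zero]; rfl)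
  · have d' : OD ((h.t.blk hB).val N) ((h.t.blk hB).val r) ((h.t.blk hB).val t) := ⟨congrArg (h.t.blk hB).val d.skew,
      congrArg (h.t.blk hB).val d.cube, fun e => d.ne ((h.t.blk hB).val_inj e), congrArg (h.t.blk hB).val d.symm,
      congrArg (h.t.blk hB).val d.sq, congrArg (h.t.blk hB).val d.anti, congrArg (h.t.blk hB).val d.half⟩
    have hN : (h.t.blk hB).val N ∈ B := (h.t.blk hB).val_mem N
    obtain ⟨a, b, a1, b1, a2, b2, M, m1, m2, m3⟩ := d'.comm
    refine h.no_idem hB c hst hπ hc.1 hc.2 (h.mem_Dt_comm hB (a1 ▸ (h.t.blk hB).val_mem r)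
      (b1 ▸ add_mem (add_mem (one_mem _) hN) (mul_mem (mul_mem ((h.t.blk hB).val_mem t) hN) hN)) a2 b2)
      (m3 ▸ not_cen h.ss m2 ⟨3, by rw [pow_three', m1]⟩) (k := 2) (Units.ext ?_)
    rw [Units.val_pow_eq_pow_val, m3]
    exact pow_of_cube c.prime c.char m1
  · refine h3 ((h.t.cen_iff hB).2 (h.skew_cen hB hst c.le_SAut hI (fun x hx y hy x1 y1 => ?_) ((h.t.blk hB).val_mem x)
      (congrArg (h.t.blk hB).val h2)))
    exact congrArg (h.t.blk hB).val (h1 ((h.t.blk hB).mk' x hx) ((h.t.blk hB).mk' y hy) ((h.t.blk hB).val_inj x1)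
      ((h.t.blk hB).val_inj y1))

theorem spF {B : Subring A} (hB : B ∈ 𝓑) : (∀ z ∈ Subring.center A, star z = z) ∧ ∃ ν ε, SpF B ν ε := by
  obtain ⟨l, hl, hl'⟩ := h.l B hB
  rcases idem (h.t.ss h.ss hB) (h.t.noncomm hB) (l := (h.t.blk hB).mk' l hl) ((h.t.blk hB).val_inj hl') with
    ⟨f, f1, f2, f3, f4⟩ | ⟨h1, h2, ν, ε, s, h3⟩
  · obtain ⟨B', hB', hne⟩ := h.t.exists_ne hB
    rcases h.no_sy c hst hI hB' (π := (h.t.blk hB).val f) ⟨h.le_Cz hB' hB hne.symm ((h.t.blk hB).val_mem f),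
      congrArg (h.t.blk hB).val f1, congrArg (h.t.blk hB).val f2⟩ with e | e
    · exact absurd ((h.t.blk hB).val_inj e) f3
    · exact absurd ((h.t.blk hB).val_inj e) f4
  · refine ⟨fun z hz => congrArg (h.t.blk hB).val (h1 ((h.t.blk hB).mk' z (h.t.cen_le B hB hz)) ((h.t.cen_iff hB).2 hz)),
      _, _, (h.t.blk hB).val_mem ν, (h.t.blk hB).val_mem ε, ⟨⟨fun e => s.ne ((h.t.blk hB).val_inj e),
      congrArg (h.t.blk hB).val s.skew, congrArg (h.t.blk hB).val s.en, congrArg (h.t.blk hB).val s.nE,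
      congrArg (h.t.blk hB).val s.es, congrArg (h.t.blk hB).val s.se⟩, congrArg (h.t.blk hB).val h3⟩,
      fun x hx => (h.t.cen_iff hB).1 (h2 ((h.t.blk hB).mk' x hx))⟩

theorem two {B₁ B₂ B₃ : Subring A} (h1 : B₁ ∈ 𝓑) (h2 : B₂ ∈ 𝓑) (h3 : B₃ ∈ 𝓑) (n12 : B₂ ≠ B₁) (n13 : B₃ ≠ B₁) :
    B₃ = B₂ := by
  by_contra n23
  obtain ⟨-, ν, ε, s⟩ := h.spF c hst hI h2
  obtain ⟨-, ν', ε', s'⟩ := h.spF c hst hI h3
  have a1 := h.t.star_mem _ h2 _ s.em
  have a2 := h.t.star_mem _ h3 _ s'.em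
  have a3 := h.le_Cz h2 h3 n23 s'.em
  have a4 := h.le_Cz h2 h3 n23 a2
  have a5 := h.le_Cz h2 h3 n23 s'.nm
  have key : ε * ν' ≠ 0 := fun h0 => s.s.s.ne (by
    rw [← s.s.s.en, h.nzd h2 s.em a5 (Or.inr s'.s.s.skew) s'.s.s.ne h0, zero_mul])
  have e1 : ε * (ε * ε' + star ε * star ε') = ε * ε' := by
    rw [mul_add, ← mul_assoc, ← mul_assoc, s.s.idem, s.s.s.es, zero_mul, add_zero]
  rcases h.no_sy c hst hI h1 (π := ε * ε' + star ε * star ε')
    ⟨add_mem (mul_mem (h.le_Cz h1 h2 n12 s.em) (h.le_Cz h1 h3 n13 s'.em))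
      (mul_mem (h.le_Cz h1 h2 n12 a1) (h.le_Cz h1 h3 n13 a2)),
    by rw [star_add, h.star_mm h2 s.em a3, h.star_mm h2 a1 a4, star_star, star_star, add_comm],
    by rw [add_mul, mul_add, mul_add, mm s.em a3, mm a1 a3, mm s.em a4, mm a1 a4, s.s.s.es, s.s.s.se, ← star_mul,
      ← star_mul, s.s.idem, s'.s.idem, zero_mul, zero_mul, add_zero, zero_add]⟩ with e | e
  · rw [e, mul_zero] at e1
    exact key (by rw [← s'.s.s.en, ← mul_assoc, ← e1, zero_mul])
  · rw [e, mul_one] at e1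
    exact key (by rw [a5 ε s.em, e1, ← mul_assoc, ← a5 ε s.em, mul_assoc, s'.s.s.nE, mul_zero])

theorem r1_mul {B₁ B₂ : Subring A} (h1 : B₁ ∈ 𝓑) (h2 : B₂ ∈ 𝓑) (n12 : B₂ ≠ B₁) {α β : A} (hα : R1 B₁ α)
    (hβ : R1 B₂ β) : R1 ⊤ (α * β) := by
  let T : AddSubgroup A := AddSubgroup.closure {x | ∃ a ∈ B₁, ∃ b ∈ B₂, x = a * b}
  let R : Subring A :=
    { carrier := {a | ∀ x ∈ T, a * x ∈ T}
      mul_mem' := fun ha hb x hx => by rw [mul_assoc]; exact ha _ (hb x hx)
      one_mem' := fun x hx => by rwa [one_mul]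
      add_mem' := fun ha hb x hx => by rw [add_mul]; exact T.add_mem (ha x hx) (hb x hx)
      zero_mem' := fun x _ => by rw [zero_mul]; exact T.zero_mem
      neg_mem' := fun ha x hx => by rw [neg_mul]; exact T.neg_mem (ha x hx) }
  have h3 : ∀ a, a ∈ R := h.t.ind fun B hB a ha x hx => by
    induction hx using AddSubgroup.closure_induction with
    | mem x hx =>
      obtain ⟨a', ha', b, hb, rfl⟩ := hx
      by_cases e : B = B₁
      · exact AddSubgroup.subset_closure ⟨a * a', mul_mem (e ▸ ha) ha', b, hb, (mul_assoc _ _ _).symm⟩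
      · have h4 : a ∈ B₂ := h.two c hst hI h1 h2 hB n12 e ▸ ha
        exact AddSubgroup.subset_closure ⟨a', ha', a * b, mul_mem h4 hb, by
          rw [← mul_assoc, ← h.le_Cz h1 h2 n12 h4 a' ha', mul_assoc]⟩
    | zero => rw [mul_zero]; exact T.zero_mem
    | add x y _ _ hx hy => rw [mul_add]; exact T.add_mem hx hy
    | neg x _ hx => rw [mul_neg]; exact T.neg_mem hx
  refine ⟨Subring.mem_top _, fun x _ => ?_⟩
  have h4 : x ∈ T := by
    have h5 := h3 x 1 (AddSubgroup.subset_closure ⟨1, one_mem _, 1, one_mem _, (mul_one 1).symm⟩)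
    rwa [mul_one] at h5
  induction h4 using AddSubgroup.closure_induction with
  | mem x hx =>
    obtain ⟨a, ha, b, hb, rfl⟩ := hx
    obtain ⟨s, hs, e1⟩ := hα.2 a ha
    obtain ⟨t, ht, e2⟩ := hβ.2 b hb
    refine ⟨s * t, mul_mem hs ht, ?_⟩
    rw [mm ha (h.le_Cz h1 h2 n12 hβ.1), mm hα.1 (h.le_Cz h1 h2 n12 (mul_mem hβ.1 hb)), e1, e2, cen_mul_mul ht]
  | zero => exact ⟨0, zero_mem _, by simp⟩
  | add x y _ _ hx hy =>
    obtain ⟨s, hs, e1⟩ := hx (Subring.mem_top _)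
    obtain ⟨t, ht, e2⟩ := hy (Subring.mem_top _)
    exact ⟨s + t, add_mem hs ht, by rw [mul_add, add_mul, e1, e2, add_mul]⟩
  | neg x _ hx =>
    obtain ⟨s, hs, e1⟩ := hx (Subring.mem_top _)
    exact ⟨-s, neg_mem hs, by rw [mul_neg, neg_mul, e1, neg_mul]⟩

end TD

section vec

variable {K V : Type} [Field K] [AddCommGroup V] [Module K V] [Nontrivial V] [FiniteDimensional K V]
  (e : A ≃+* End K V)

theorem R1.line {α : A} (h : R1 ⊤ α) {w₀ : V} (h0 : e α w₀ ≠ 0) (w : V) : ∃ t : K, e α w = t • e α w₀ := by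
  obtain ⟨φ, hφ⟩ := Module.Projective.exists_dual_eq_one K h0
  obtain ⟨c, hc, h1⟩ := h.2 (e.symm (φ.smulRight w)) (Subring.mem_top _)
  obtain ⟨t, rfl⟩ := exists_smul e hc
  have h2 := congrArg (fun z => e z w₀) h1
  simp only [map_mul, e.apply_symm_apply, End.mul_apply, LinearMap.smulRight_apply, hφ, one_smul, LinearMap.smul_apply,
    End.one_apply] at h2
  exact ⟨t, h2⟩

theorem R1.line' {α : A} (h : R1 ⊤ α) : ∃ v : V, ∀ w, ∃ t : K, e α w = t • v := by
  by_cases h0 : ∃ w₀, e α w₀ ≠ 0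
  · obtain ⟨w₀, h0⟩ := h0
    exact ⟨_, h.line e h0⟩
  · push Not at h0
    exact ⟨0, fun w => ⟨0, by rw [h0, zero_smul]⟩⟩

variable {F : FR A} {𝓑 : Set (Subring A)} (h : TD F 𝓑) {G H : Subgroup (RingAut A)} {m p : ℕ} (c : Ctx F G H m p)
  (hst : ∀ γ ∈ H, ∀ B ∈ 𝓑, γ • B ∈ 𝓑) (hI : ∀ Z : Subring A, ComSub Z → Inv H Z → Z ≤ Subring.center A)
include h c hst hI e

theorem TD.dim : finrank K V ≤ 4 := by
  obtain ⟨B₁, h1⟩ := h.t.two.nonempty
  obtain ⟨B₂, h2, n12⟩ := h.t.exists_ne h1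
  obtain ⟨-, ν, ε, s⟩ := h.spF c hst hI h1
  obtain ⟨-, ν', ε', s'⟩ := h.spF c hst hI h2
  have a1 := s.r1 s.em s.s.s.se
  have a2 := s.r1 (h.t.star_mem _ h1 _ s.em) (by rw [star_star, s.s.s.es])
  have a3 := s'.r1 s'.em s'.s.s.se
  have a4 := s'.r1 (h.t.star_mem _ h2 _ s'.em) (by rw [star_star, s'.s.s.es])
  obtain ⟨v₁, b1⟩ := (h.r1_mul c hst hI h1 h2 n12 a1 a3).line' e
  obtain ⟨v₂, b2⟩ := (h.r1_mul c hst hI h1 h2 n12 a1 a4).line' e
  obtain ⟨v₃, b3⟩ := (h.r1_mul c hst hI h1 h2 n12 a2 a3).line' e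
  obtain ⟨v₄, b4⟩ := (h.r1_mul c hst hI h1 h2 n12 a2 a4).line' e
  refine (finrank_le_of_span_eq_top (v := ![v₁, v₂, v₃, v₄]) (eq_top_iff.2 fun w _ => ?_)).trans (by simp)
  have e1 : (1 : A) = ε * ε' + ε * star ε' + (star ε * ε' + star ε * star ε') := by
    rw [← mul_add, ← mul_add, ← add_mul, s.s.add, s'.s.add, mul_one]
  have e2 := congrArg (fun z => e z w) e1
  obtain ⟨t₁, c1⟩ := b1 w
  obtain ⟨t₂, c2⟩ := b2 w
  obtain ⟨t₃, c3⟩ := b3 w
  obtain ⟨t₄, c4⟩ := b4 w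
  simp only [map_one, End.one_apply, map_add, LinearMap.add_apply, c1, c2, c3, c4] at e2
  rw [e2]
  exact add_mem (add_mem (Submodule.smul_mem _ _ (Submodule.subset_span ⟨0, rfl⟩))
    (Submodule.smul_mem _ _ (Submodule.subset_span ⟨1, rfl⟩)))
    (add_mem (Submodule.smul_mem _ _ (Submodule.subset_span ⟨2, rfl⟩))
      (Submodule.smul_mem _ _ (Submodule.subset_span ⟨3, rfl⟩)))

theorem TD.sp4 {b : LinearMap.BilinForm K V} (hb : b.SeparatingLeft) (alt : ∀ v, b v v = 0)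
    (hadj : ∀ a v w, b (e a v) w = b v (e (star a) w)) (hL : F.L = Lmax A) (hK : ∃ a : K, a ≠ 0 ∧ a ≠ 1) : False := by
  obtain ⟨B₁, h1⟩ := h.t.two.nonempty
  obtain ⟨B₂, h2, n12⟩ := h.t.exists_ne h1
  obtain ⟨hz, ν, ε, s⟩ := h.spF c hst hI h1
  obtain ⟨-, ν', ε', s'⟩ := h.spF c hst hI h2
  have hε : (-1 : K) ≠ 0 := neg_ne_zero.2 one_ne_zero
  have hs := alt_swap alt
  have hs' : ∀ v w, b v w = -b w v := fun v w => (hs v w).trans (neg_one_mul _)
  -- the characteristic is two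
  have k2 : (2 : K) = 0 := by
    by_contra k2
    have a1 := h.le_Cz h1 h2 n12 s'.nm
    have a2 : star (ν * ν') = ν * ν' := by rw [h.star_mm h1 s.nm a1, s.s.s.skew, s'.s.s.skew, neg_mul_neg]
    have a3 : ∀ x, b x (e (ν * ν') x) = 0 := fun x => by
      have a4 := hadj (ν * ν') x x
      rw [a2, hs'] at a4
      exact (mul_eq_zero.1 (by linear_combination -a4 : 2 * b x (e (ν * ν') x) = 0)).resolve_left k2
    have a4 := h.r1_mul c hst hI h1 h2 n12 (s.r1 s.nm (by rw [s.s.s.skew, neg_mul, s.s.s.sq, neg_zero]))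
      (s'.r1 s'.nm (by rw [s'.s.s.skew, neg_mul, s'.s.s.sq, neg_zero]))
    refine s.s.s.ne (h.nzd h1 s.nm a1 (Or.inr s'.s.s.skew) s'.s.s.ne (e.injective (LinearMap.ext fun w => ?_)))
    rw [map_zero, LinearMap.zero_apply]
    by_contra h0
    refine h0 (hb _ fun x => ?_)
    obtain ⟨t, ht⟩ := a4.line e h0 x
    have a5 := NCTV.polar (σ := RingHom.id K) a3 x w
    rw [ht, map_smul, a3, smul_zero, add_zero] at a5
    rw [hs', a5, neg_zero]
  have hsym : ∀ v w, b v w = b w v := fun v w => by linear_combination hs' v w - b w v * k2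
  -- the quadratic form
  have q1 : ∀ B ∈ 𝓑, ∀ l ∈ B, l + star l = 1 → ∀ x, b x (e l x) = b x (e ε x) := fun B hB l hl hl' x => by
    obtain ⟨a, ha⟩ := h.t.l_sub_l ⟨ε, Lmin A, s.s.add, Or.inl rfl⟩ h.l hB h1 hl s.em hl' s.s.add
    have a1 := congrArg (fun z => b x (e z x)) ha
    simp only [map_sub, LinearMap.sub_apply, ← hadj, hsym (e a x), sub_self] at a1
    exact sub_eq_zero.1 a1
  have q2 : ∀ u : Aˣ, u ∈ F.Iso → cA A u ∈ H → ∀ x, b (e u x) (e ε (e u x)) = b x (e ε x) := fun u hu hH x => by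
    have a1 := q1 _ (hst _ (inv_mem hH) B₁ h1) _ (apply_mem_smul.2 s.em)
      (by rw [← c.le_SAut (inv_mem hH), ← map_add, s.s.add, map_one]) x
    rw [← map_inv, cj_apply, inv_inv, FR.Iso.inv_eq hu, map_mul, map_mul, End.mul_apply, End.mul_apply, ← hadj] at a1
    exact a1
  have q3 : ∀ x y, b x (e ε y) + b y (e ε x) = b x y := fun x y => by
    rw [hsym y, hadj, ← map_add, ← LinearMap.add_apply, ← map_add, s.s.add, map_one, End.one_apply]
  obtain ⟨v, hv⟩ : ∃ v, b v (e ε v) ≠ 0 := by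
    by_contra hc
    push Not at hc
    obtain ⟨x, hx⟩ := exists_ne (0 : V)
    exact hx (hb x fun y => by rw [← q3, NCTV.polar (σ := RingHom.id K) hc x y])
  obtain ⟨a, a0, a1⟩ := hK
  have a2 : a + 1 ≠ 0 := fun h0 => a1 (by linear_combination h0 - k2)
  have a3 : a * a - 1 ≠ 0 := fun h0 => mul_ne_zero a2 a2 (by linear_combination h0 + (a + 1) * k2)
  have sc : ∀ t : K, e.symm (t • 1) ∈ C0 A := fun t => ⟨cen_smul e t, hz _ (cen_smul e t)⟩
  have tv : ∀ {ν ε : A}, S2 ν ε → ε * ε = ε → ∀ t : K, ∃ g ∈ (⁅F.Iso, F.Iso⁆ : Subgroup Aˣ),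
      (g : A) = 1 + e.symm (t • 1) * ν := fun s hε t => by
    obtain ⟨g, hg, e1⟩ := torus hL s hε (sc a) (sc a⁻¹) (by
      rw [← map_mul, smul_mul_smul_comm, mul_inv_cancel₀ a0, mul_one, one_smul, map_one]) (sc (t / (a * a - 1)))
    refine ⟨g, hg, e1.trans ?_⟩
    congr 2
    apply e.injective
    simp only [map_mul, map_sub, map_one, e.apply_symm_apply, smul_mul_smul_comm, mul_one]
    rw [← one_smul K (1 : End K V), smul_smul, smul_smul, smul_smul, ← sub_smul, smul_mul_smul_comm, mul_one, mul_one,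
      mul_one, mul_one, mul_div_cancel₀ _ a3]
  -- the elements `y` and `g`
  obtain ⟨y, hy, ey⟩ := tv s.s.s s.s.idem 1
  rw [one_smul, map_one, one_mul] at ey
  have hy' : y ∈ Dt F B₁ (h.t.star_mem B₁ h1) := ⟨ey ▸ add_mem (one_mem _) s.nm, (FR.comm_le_Iso hy).1, fun π hπ => by
    rcases h.no_sy c hst hI h1 hπ with rfl | rfl
    · exact ⟨1, one_mem _, by simp [cb]⟩
    · exact ⟨y, hy, by simp [cb]⟩⟩
  have hyc : (y : A) ∉ Subring.center A := ey ▸ not_cen h.ss s.s.s.ne ⟨2, by rw [pow_two, s.s.s.sq]⟩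
  have hv0 : v ≠ 0 := fun h0 => hv (by rw [h0, map_zero, LinearMap.zero_apply])
  obtain ⟨f, hff, hfv⟩ := exists_partner (σ := RingHom.id K) hb hε hs e hadj s.s.add hv0 (alt v)
  have sv := s2_of_hyp (σ := RingHom.id K) hb hε hs e hadj (alt v) hff hfv one_ne_zero (by simp)
  obtain ⟨g, hg, eg⟩ := tv sv (by rw [← map_mul, r2_mul, inv_mul_cancel₀ hfv, one_mul]) (a / b v (e ε v))
  obtain ⟨d, hd, h3⟩ := h.uniD h1 c hst hy' hyc (Units.ext (by
    rw [Units.val_pow_eq_pow_val, ey, one_add_pow s.s.s.sq, c.char, zero_mul, add_zero, Units.val_one])) (inv_mem hg)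
  have h4 := mul_mem (mul_mem hd hy') (inv_mem hd)
  have h5 := ((h.sub h1 c hst hy' hyc).2.1 ⟨_, h4, rfl⟩).1
  have h6 : ((d * y * d⁻¹ : Aˣ) : A) = 1 + d * ν * star (d : A) := by
    rw [Units.val_mul, Units.val_mul, ey, star_eq_inv hd.2.1, mul_add, add_mul, mul_one, hd.2.1]
  have h7 : star (d : A) * d = 1 := by rw [← star_eq_inv hd.2.1, Units.inv_mul]
  have n1 : d * ν * star (d : A) ∈ B₁ := mul_mem (mul_mem hd.1 s.nm) (h.t.star_mem _ h1 _ hd.1)
  have n2 : star (d * ν * star (d : A)) = -(d * ν * star (d : A)) := by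
    rw [star_mul, star_mul, star_star, s.s.s.skew]; noncomm_ring
  have n3 : d * ν * star (d : A) * (d * ν * star (d : A)) = 0 := by
    rw [mul_assoc, ← mul_assoc (star (d : A)), ← mul_assoc (star (d : A)), h7, one_mul, mul_assoc, ← mul_assoc ν,
      s.s.s.sq, zero_mul, mul_zero]
  have n4 : d * ν * star (d : A) ≠ 0 := fun h0 => s.s.s.ne (by
    rw [← one_mul ν, ← mul_one (1 * ν), ← h7, mul_assoc _ _ ν, ← mul_assoc _ _ (d : A), mul_assoc (star (d : A)), h0,
      mul_zero, zero_mul])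
  generalize d * y * d⁻¹ = y' at h3 h4 h5 h6
  generalize d * ν * star (d : A) = μ at h6 n1 n2 n3 n4
  have iy := FR.comm_le_Iso (h.Dt_le h1 h4)
  have ig := FR.comm_le_Iso hg
  have g1 : ∀ x, b (e g x) (e ε (e g x)) = b x (e ε x) + a * (a + 1) / b v (e ε v) * b v x ^ 2 := fun x => by
    have g2 : e g x = x + (a / b v (e ε v) * b v x) • v := by
      simp only [eg, map_add, map_one, map_mul, e.apply_symm_apply, LinearMap.add_apply, End.one_apply, End.mul_apply,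
        LinearMap.smul_apply, r2_apply, one_mul, smul_smul]
    have g3 := q3 x v
    rw [hsym x v] at g3
    simp only [g2, map_add, map_smul, LinearMap.add_apply, LinearMap.smul_apply, smul_eq_mul]
    field_simp
    linear_combination (a * b v x) * g3
  have g2 : e μ v = 0 := by
    refine hb _ fun x => ?_
    have g3 := q2 _ (mul_mem (mul_mem (inv_mem (inv_mem ig)) iy) (inv_mem ig)) h3 (e g x)
    have g4 : e (g⁻¹⁻¹ * y' * g⁻¹ : Aˣ) (e g x) = e g (e y' x) := by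
      rw [inv_inv, ← End.mul_apply, ← map_mul, ← Units.val_mul, inv_mul_cancel_right, Units.val_mul, map_mul,
        End.mul_apply]
    rw [g4, g1, g1, q2 _ iy h5, add_right_inj, mul_right_inj' (div_ne_zero (mul_ne_zero a0 a2) hv), h6, map_add, map_one,
      LinearMap.add_apply, End.one_apply, map_add] at g3
    have g5 : b v (e μ x) = 0 := pow_eq_zero_iff two_ne_zero |>.1 (by
      linear_combination g3 - b v x * b v (e μ x) * k2)
    rw [hadj, n2, map_neg, LinearMap.neg_apply, map_neg, g5, neg_zero]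
  -- an element of trace one killing `v`
  by_cases h8 : ∀ κ ∈ B₁, κ * μ + star (κ * μ) = 0
  · let I : AddSubgroup A :=
      { carrier := {x | ∃ κ ∈ B₁, x = κ * μ}
        add_mem' := by
          rintro _ _ ⟨x, hx, rfl⟩ ⟨y, hy, rfl⟩
          exact ⟨x + y, add_mem hx hy, (add_mul _ _ _).symm⟩
        zero_mem' := ⟨0, zero_mem _, (zero_mul μ).symm⟩
        neg_mem' := by
          rintro _ ⟨x, hx, rfl⟩
          exact ⟨-x, neg_mem hx, (neg_mul _ _).symm⟩ }
    rcases Blk.ss_elim _ (h.t.ss h.ss h1) I (by rintro _ ⟨x, hx, rfl⟩; exact B₁.mul_mem hx n1)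
      (by rintro _ ⟨x, hx, rfl⟩ z hz; exact ⟨z * x, B₁.mul_mem hz hx, (mul_assoc _ _ _).symm⟩)
      (by
        rintro _ ⟨x, hx, rfl⟩
        exact ⟨-x, neg_mem hx, by rw [neg_mul]; exact eq_neg_of_add_eq_zero_right (h8 x hx)⟩) with h9 | ⟨κ, -, h9⟩
    · have h10 : μ ∈ I := ⟨1, one_mem _, (one_mul μ).symm⟩
      rw [h9] at h10
      exact n4 h10
    · have h10 : (1 : A) = κ * μ := h9
      exact n4 (by rw [← one_mul μ, h10, mul_assoc, n3, mul_zero])
  · push Not at h8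
    obtain ⟨κ, hκ, h8⟩ := h8
    obtain ⟨t, ht⟩ := exists_smul e (s.tr _ (mul_mem hκ n1))
    have t0 : t ≠ 0 := fun h0 => h8 (by rw [ht, h0, zero_smul, map_zero])
    have h9 := q1 B₁ h1 (e.symm (t⁻¹ • 1) * (κ * μ)) (mul_mem (h.t.cen_le _ h1 (sc _).1) (mul_mem hκ n1)) (by
      rw [star_mul, (sc _).2, cen_comm (sc _).1 (star _), ← mul_add, ht, ← map_mul, smul_mul_smul_comm,
        inv_mul_cancel₀ t0, mul_one, one_smul, map_one]) v
    rw [map_mul, map_mul, End.mul_apply, End.mul_apply, g2, map_zero, map_zero, map_zero] at h9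
    exact hv h9.symm

end vec

theorem TenD.td {F : FR A} {G H : Subgroup (RingAut A)} {m p : ℕ} (c : Ctx F G H m p) (h : TenD H) :
    ∃ 𝓑, TD F 𝓑 ∧ (∀ γ ∈ H, ∀ B ∈ 𝓑, γ • B ∈ 𝓑) := by
  obtain ⟨hI, 𝓑, t1, t2, t3, t4, t5, t6, hst⟩ := h
  have hT : Tens 𝓑 := ⟨t1, t2, t3, t4, t5, t6⟩
  exact ⟨𝓑, ⟨c.ss, hT, fun B hB => hT.exists_l c.ss c.le_SAut hI.1.1 hst hB,
    fun B hB x hx => hT.l_cong c.ss F c.H_le_Aut hI.1.1 hst hB hx⟩, hst⟩

theorem TenD.star_cen {F : FR A} {G H : Subgroup (RingAut A)} {m p : ℕ} (c : Ctx F G H m p) (h : TenD H) :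
    ∀ z ∈ Subring.center A, star z = z := by
  obtain ⟨𝓑, t, hst⟩ := TenD.td c h
  obtain ⟨B, hB⟩ := t.t.two.nonempty
  exact (t.spF c hst h.1.2 hB).1

end Cfsg.Agent.TH.Cl.Ten

namespace Cfsg.Agent.TH.Cl

open Cfsg.Agent.DS.Cl Cfsg.Agent.DS.Cl.Fwd Cfsg.Agent.SB.Cl Module Ten

/-- **tensor decompositions** -/
theorem boxTen : BoxTen := by
  refine ⟨?_, ?_, ?_, ?_⟩
  · intro K _ _ n F G H m p k c h
    have : Nonempty (Fin n) := ⟨⟨0, by have := k.dim; omega⟩⟩
    have h1 := TenD.star_cen c h (LR.mk 1 0) (Subring.mem_center_iff.2 fun g => by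
      obtain ⟨a, b, rfl⟩ := LR.exists_mk g
      rw [LR.mk_mul, LR.mk_mul, mul_one, one_mul, mul_zero, zero_mul])
    have h2 : (0 : Matrix (Fin n) (Fin n) K).transpose = 1 := congrArg Prod.fst h1
    rw [Matrix.transpose_zero] at h2
    exact zero_ne_one h2
  · intro K V _ _ _ _ _ f F q G H m p k c h
    have : Nontrivial V := Module.nontrivial_of_finrank_pos (R := K) (by have := k.dim; omega)
    obtain ⟨t, ht⟩ := k.u.2
    obtain ⟨v, hv⟩ := exists_ne (0 : V)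
    obtain ⟨u, hu⟩ := f.exists_ne hv
    have h1 := f.b_star (f.eb (t • 1)) u v
    rw [TenD.star_cen c h _ (f.smul_mem_center t)] at h1
    change f.b u (t • v) = f.b (t • u) v at h1
    rw [f.smul_left, f.smul_right] at h1
    exact ht (mul_right_cancel₀ hu h1)
  · intro K V _ _ _ _ _ f F k G H m p s c h
    have : Module.Finite K V := Module.Finite.of_finite
    have : Nontrivial V := Module.nontrivial_of_finrank_pos (R := K) (by have := s.dim; have := s.two; omega)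
    obtain ⟨𝓑, t, hst⟩ := TenD.td c h
    let e : f.EB ≃+* End K V := RingEquiv.refl (End K V)
    have h1 := t.dim e c hst h.1.2
    have h2 := s.ne (by have := s.dim; have := s.two; omega)
    refine t.sp4 e c hst h.1.2 (b := LinearMap.mk₂ K f.b f.add_left f.smul_left f.add_right fun a x y => by
      rw [f.smul_right, s.sp.1, smul_eq_mul]) (fun v hv => f.nondeg v fun u => ?_) s.sp.2.1
      (fun a v w => (f.b_star a v w).symm) s.sp.2.2 ?_
    · rw [f.swap, show f.b v u = 0 from hv u, map_zero, mul_zero]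
    · by_contra hc
      push Not at hc
      classical
      have h3 : (Finset.univ : Finset K) ⊆ {0, 1} := fun a _ => by
        by_cases ha : a = 0
        · simp [ha]
        · simp [hc a ha]
      have h4 := (Finset.card_le_card h3).trans Finset.card_le_two
      rw [Finset.card_univ] at h4
      omega
  · intro K V _ _ _ _ _ f F Q G H m p k c h
    have : Module.Finite K V := Module.Finite.of_finite
    have : Nontrivial V := Module.nontrivial_of_finrank_pos (R := K) (by have := k.dim; omega)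
    obtain ⟨𝓑, t, hst⟩ := TenD.td c h
    let e : f.EB ≃+* End K V := RingEquiv.refl (End K V)
    have h1 := t.dim e c hst h.1.2
    have := k.dim
    omega

end Cfsg.Agent.TH.Cl
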