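import Cfsg.Agent.TH.Cl.Ten.Red
import Cfsg.Agent.SB.C2.Solv

/-!
# S3541, tensor decompositions: unipotent elements and idempotents of the factors (helper94)

`mod` : a non-commutative star-simple ring with an element of trace one has a long root element, or a Siegel element
inverted by a reflection, or is of type `O₂`; `idem` : it has a proper symmetric idempotent or is of type `Sp₂`.
-/

set_option autoImplicit false
set_option linter.unusedSectionVars false

namespace Cfsg.Agent.TH.Cl.Ten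

open Cfsg.Agent.DS.Cl Cfsg.Agent.DS.Cl.NCTV Cfsg.Agent.DS.Cl.P5 Cfsg.Agent.SB.C2 Module

variable {A : Type} [Ring A] [StarRing A] [Finite A]

/-- a nilpotent skew element negated by a reflection, odd characteristic -/
structure OD (N r h : A) : Prop where
  skew : star N = -N
  cube : N * N * N = 0
  ne : N ≠ 0
  symm : star r = r
  sq : r * r = 1
  anti : r * N = -(N * r)
  half : h + h = 1

/-- type `Sp₂` -/
structure Sp2 (ν ε : A) : Prop where
  s : S2 ν ε
  add : ε + star ε = 1

section form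

variable {K V : Type} [Field K] [AddCommGroup V] [Module K V] {σ : K →+* K}

/-- the rank one operator `x ↦ c * b v x • u` -/
def r2 (b : V →ₛₗ[σ] V →ₗ[K] K) (c : K) (u v : V) : End K V := c • (b v).smulRight u

theorem r2_apply (b : V →ₛₗ[σ] V →ₗ[K] K) (c : K) (u v x : V) : r2 b c u v x = (c * b v x) • u := by
  rw [r2, LinearMap.smul_apply, LinearMap.smulRight_apply, smul_smul]

theorem r2_mul (b : V →ₛₗ[σ] V →ₗ[K] K) (c d : K) (u v u' v' : V) :
    r2 b c u v * r2 b d u' v' = r2 b (c * b v u' * d) u v' := by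
  ext w
  rw [Module.End.mul_apply, r2_apply, r2_apply, r2_apply, map_smul, smul_eq_mul]
  congr 1
  ring

theorem r2_zero (b : V →ₛₗ[σ] V →ₗ[K] K) (u v : V) : r2 b 0 u v = 0 := by rw [r2, zero_smul]

theorem r2_neg (b : V →ₛₗ[σ] V →ₗ[K] K) (c : K) (u v : V) : r2 b (-c) u v = -r2 b c u v := by rw [r2, r2, neg_smul]

variable {b : V →ₛₗ[σ] V →ₗ[K] K} (hb : b.SeparatingLeft) {ε : K} (hε : ε ≠ 0) (hs : ∀ v w, σ (b v w) = ε * b w v)
  (e : A ≃+* End K V) (hadj : ∀ a v w, b (e a v) w = b v (e (star a) w))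
include hb hε hs hadj

theorem star_r2 (c : K) (u v : V) : star (e.symm (r2 b c u v)) = e.symm (r2 b (σ c * ε) v u) := by
  apply e.injective
  rw [e.apply_symm_apply]
  ext w
  refine ext_right hb hε hs fun x => ?_
  rw [← hadj, e.apply_symm_apply, r2_apply, r2_apply, map_smulₛₗ, map_smul, LinearMap.smul_apply, map_mul, hs,
    smul_eq_mul, smul_eq_mul]
  ring

theorem s2_of_hyp {u v : V} {c : K} (huu : b u u = 0) (hvv : b v v = 0) (huv : b v u ≠ 0) (hc : c ≠ 0)
    (hc' : σ c * ε = -c) : S2 (e.symm (r2 b c u u)) (e.symm (r2 b (b v u)⁻¹ u v)) := by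
  have h1 : b u v ≠ 0 := fun h0 => by
    have h2 := hs u v
    rw [h0, map_zero] at h2
    exact mul_ne_zero hε huv h2.symm
  refine ⟨fun h0 => ?_, ?_, ?_, ?_, ?_, ?_⟩
  · have h2 := congrArg (fun z => b v (e z v)) h0
    simp only [e.apply_symm_apply, r2_apply, map_zero, LinearMap.zero_apply, map_smul, smul_eq_mul] at h2
    exact mul_ne_zero (mul_ne_zero hc h1) huv h2
  · rw [star_r2 hb hε hs e hadj, hc', r2_neg, map_neg]
  · rw [← map_mul, r2_mul, inv_mul_cancel₀ huv, one_mul]
  · rw [← map_mul, r2_mul, huu, mul_zero, zero_mul, r2_zero, map_zero]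
  · rw [star_r2 hb hε hs e hadj, ← map_mul, r2_mul, hvv, mul_zero, zero_mul, r2_zero, map_zero]
  · rw [star_r2 hb hε hs e hadj, ← map_mul, r2_mul, huu, mul_zero, zero_mul, r2_zero, map_zero]

theorem exists_partner {l : A} (hl : l + star l = 1) {u : V} (hu : u ≠ 0) (huu : b u u = 0) :
    ∃ v, b v v = 0 ∧ b v u ≠ 0 := by
  obtain ⟨v, hv⟩ : ∃ v, b v u ≠ 0 := by
    by_contra hc
    push Not at hc
    exact hu (ext_right hb hε hs fun w => by rw [hc, map_zero])
  have h1 : ε * b v v = ε * b v (e l v) + σ (b v (e l v)) := by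
    rw [hs, hadj, ← mul_add, ← map_add, ← LinearMap.add_apply, ← map_add, hl, map_one, End.one_apply]
  have h2 := hs v u
  have h3 : σ (b v u) ≠ 0 := (map_ne_zero σ).2 hv
  refine ⟨v + (-(b v (e l v)) / b v u) • u, mul_left_cancel₀ hε ?_, ?_⟩
  · simp only [map_add, map_smulₛₗ, LinearMap.add_apply, LinearMap.smul_apply, smul_eq_mul, huu, map_div₀, map_neg,
      RingHom.id_apply, mul_zero, add_zero, mul_add, h1]
    rw [mul_left_comm ε, ← h2]
    field_simp
    ring
  · simpa only [map_add, map_smulₛₗ, LinearMap.add_apply, LinearMap.smul_apply, smul_eq_mul, huu, mul_zero,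
      add_zero] using hv

omit hadj in
/-- alternating forms on a plane -/
theorem alt2 {u v : V} (hV : ∀ x, ∃ α β : K, x = α • u + β • v) {y : End K V} (h1 : ∀ x, b x (y x) = 0)
    (h2 : b u (y v) = 0) : y = 0 := by
  have h3 := NCTV.polar h1 u v
  rw [h2, zero_add] at h3
  ext w
  refine ext_right hb hε hs fun x => ?_
  obtain ⟨α, β, rfl⟩ := hV x
  obtain ⟨α', β', rfl⟩ := hV w
  simp only [map_add, map_smulₛₗ, LinearMap.add_apply, LinearMap.smul_apply, h1, h2, h3, smul_zero, add_zero,
    LinearMap.zero_apply, map_zero]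

end form

theorem two_le {K : Type} [Field K] {n : ℕ} (h : ∃ a b : End K (Fin n → K), a * b ≠ b * a) : 2 ≤ n := by
  by_contra hn
  have : Subsingleton (Fin n) := Fin.subsingleton_iff_le_one.2 (by omega)
  obtain ⟨a, b, hab⟩ := h
  refine hab (end_comm (v := fun _ => (1 : K)) (fun z => ?_) a b)
  rcases isEmpty_or_nonempty (Fin n) with h0 | ⟨⟨i⟩⟩
  · exact ⟨0, Subsingleton.elim _ _⟩
  · exact ⟨z i, funext fun j => by rw [Subsingleton.elim j i, Pi.smul_apply, smul_eq_mul, mul_one]⟩

theorem mod_L (hA : ∃ a b : A, a * b ≠ b * a) (h : ModL A) :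
    (∃ ν ε : A, S2 ν ε) ∧ ∃ f : A, star f = f ∧ f * f = f ∧ f ≠ 0 ∧ f ≠ 1 := by
  obtain ⟨K, _, _, n, π, -, hπ⟩ := h
  have hn : 2 ≤ n := two_le (K := K) (by
    by_contra hc
    push Not at hc
    obtain ⟨x, y, hxy⟩ := hA
    exact hxy (L_inj hπ (by rw [map_mul, map_mul, hc]) (by rw [star_mul, star_mul, map_mul, map_mul, hc])))
  let i : Fin n := ⟨0, by omega⟩
  let j : Fin n := ⟨1, by omega⟩
  have hij : i ≠ j := by simp [i, j]
  let E : Fin n → Fin n → End K (Fin n → K) := fun a b => (LinearMap.proj b).smulRight (Pi.single a 1)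
  have h1 : ∀ a b c, E a b * E b c = E a c := fun a b c => LinearMap.ext fun w => by simp [E]
  have h2 : ∀ a b b' c, b ≠ b' → E a b * E b' c = 0 := fun a b b' c hb => LinearMap.ext fun w => by simp [E, hb]
  obtain ⟨ν, n1, n2⟩ := L_surj hπ (E i j) (-E i j)
  obtain ⟨ε, e1, e2⟩ := L_surj hπ (E i i) (E j j)
  obtain ⟨f, f1, f2⟩ := L_surj hπ (E i i) (E i i)
  have h4 : -E i j * E j j = -E i j := by rw [neg_mul (E i j), h1]
  have h5 : E j j * -E i j = 0 := by rw [mul_neg (E j j), h2 _ _ _ _ hij.symm, neg_zero]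
  have h3 : ∀ a b, E a b ≠ 0 := fun a b h0 => by
    have h3 := congrFun (LinearMap.congr_fun h0 (Pi.single b 1)) a
    simp [E] at h3
  refine ⟨⟨ν, ε, fun h0 => h3 i j ?_, L_inj hπ ?_ ?_, L_inj hπ ?_ ?_, L_inj hπ ?_ ?_, L_inj hπ ?_ ?_, L_inj hπ ?_ ?_⟩,
    f, L_inj hπ ?_ ?_, L_inj hπ ?_ ?_, fun h0 => h3 i i ?_, fun h0 => h3 j j ?_⟩
  · rw [← n1, h0, map_zero]
  rotate_right 2
  · rw [← f1, h0, map_zero]
  · rw [← h2 i i j j hij, ← f1, h0, map_one, one_mul]
  all_goals
    simp only [star_mul, star_star, star_neg, star_zero, map_mul, map_neg, map_zero, n1, n2, e1, e2, f1, f2, h1,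
      h2 _ _ _ _ hij, h2 _ _ _ _ hij.symm, neg_neg, h4, h5]

theorem mod_U (hA : ∃ a b : A, a * b ≠ b * a) {l : A} (hl : l + star l = 1) (h : ModU A) : ∃ ν ε : A, S2 ν ε := by
  obtain ⟨K, _, _, n, e, σ, b, hn, hσ, hσ2, hs, hb, hadj⟩ := h
  have hs' : ∀ v w, σ (b v w) = 1 * b w v := fun v w => by rw [one_mul, hs.eq]
  obtain ⟨u, hu, huu⟩ : ∃ u, u ≠ 0 ∧ b u u = 0 := by
    by_contra hc
    push Not at hc
    have : Nonempty (Fin n) := ⟨⟨0, hn⟩⟩
    obtain ⟨v, hv⟩ := exists_ne (0 : Fin n → K)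
    have hvv := hc v hv
    obtain ⟨w, hw, hvw⟩ : ∃ w, w ≠ 0 ∧ b v w = 0 := by
      by_contra hc'
      push Not at hc'
      obtain ⟨x, y, hxy⟩ := hA
      refine hxy (e.injective ?_)
      rw [map_mul, map_mul]
      refine end_comm (v := v) (fun z => ⟨b v z / b v v, ?_⟩) _ _
      by_contra hz
      refine hc' _ (sub_ne_zero.2 hz) ?_
      rw [map_sub, map_smul, smul_eq_mul, div_mul_cancel₀ _ hvv, sub_self]
    have hww := hc w hw
    have hwv : b w v = 0 := by rw [← hs.eq, hvw, map_zero]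
    obtain ⟨a, ha⟩ := ClassicalGeometry.InvolutiveNorm.exists_mul_sigma_eq hσ hσ2 (a := -b v v / b w w)
      (by rw [map_div₀, map_neg, hs.eq, hs.eq])
    refine hc (v + a • w) (fun h0 => hvv ?_) ?_
    · have h1 := congrArg (b v) h0
      rwa [map_add, map_smul, hvw, smul_zero, add_zero, map_zero] at h1
    · simp only [map_add, map_smulₛₗ, LinearMap.add_apply, LinearMap.smul_apply, smul_eq_mul, hvw, hwv, mul_zero,
        add_zero, zero_add, RingHom.id_apply]
      rw [← mul_assoc, ha]
      field_simp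
      ring
  obtain ⟨v, hvv, hvu⟩ := exists_partner hb one_ne_zero hs' e hadj hl hu huu
  obtain ⟨a, ha⟩ := ClassicalGeometry.InvolutiveNorm.exists_sigma_ne hσ
  exact ⟨_, _, s2_of_hyp hb one_ne_zero hs' e hadj huu hvv hvu (c := σ a - a) (sub_ne_zero.2 ha)
    (by rw [map_sub, hσ2, mul_one, neg_sub])⟩

theorem alt_swap {K V : Type} [Field K] [AddCommGroup V] [Module K V] {b : LinearMap.BilinForm K V}
    (h : ∀ v, b v v = 0) (v w : V) : RingHom.id K (b v w) = -1 * b w v := by
  have h2 := NCTV.polar (σ := RingHom.id K) (b := b) (x := 1) h v w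
  rw [End.one_apply, End.one_apply] at h2
  rw [RingHom.id_apply]
  linear_combination h2

theorem mod_B (hA : ∃ a b : A, a * b ≠ b * a) {l : A} (hl : l + star l = 1) (h : ModB A) :
    (∃ ν ε : A, S2 ν ε) ∨ (∃ N r h : A, OD N r h) ∨
      ((∀ x y : A, star x = -x → star y = -y → x * y = y * x) ∧ ∃ x : A, star x = -x ∧ x ∉ Subring.center A) := by
  obtain ⟨K, _, _, n, e, b, hn, hs, hb, hadj⟩ := h
  have : Nonempty (Fin n) := ⟨⟨0, hn⟩⟩
  have hε : (-1 : K) ≠ 0 := neg_ne_zero.2 one_ne_zero
  by_cases alt : ∀ v, b v v = 0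
  · obtain ⟨u, hu⟩ := exists_ne (0 : Fin n → K)
    obtain ⟨v, hvv, hvu⟩ := exists_partner (σ := RingHom.id K) hb hε (alt_swap alt) e hadj hl hu (alt u)
    exact Or.inl ⟨_, _, s2_of_hyp (σ := RingHom.id K) hb hε (alt_swap alt) e hadj (alt u) hvv hvu one_ne_zero
      (by simp)⟩
  right
  have h0 : ∀ v, b v v = b v (e l v) + b (e l v) v := fun v => by
    rw [hadj, ← map_add, ← LinearMap.add_apply, ← map_add, hl, map_one, End.one_apply]
  replace hs : ∀ v w, b w v = b v w := hs.resolve_right fun hs => alt fun v => by rw [h0, hs v, add_neg_cancel]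
  have h2 : (2 : K) ≠ 0 := fun h2 => alt fun v => by rw [h0, hs v, ← two_mul, h2, zero_mul]
  have hs' : ∀ v w, RingHom.id K (b v w) = 1 * b w v := fun v w => by rw [one_mul, hs, RingHom.id_apply]
  have hn2 : 2 ≤ n := two_le (K := K) (by
    obtain ⟨x, y, hxy⟩ := hA
    exact ⟨e x, e y, fun h => hxy (e.injective (by rw [map_mul, map_mul, h]))⟩)
  let _ := invertibleOfNonzero h2
  obtain ⟨v, hv⟩ := LinearMap.BilinForm.exists_orthogonal_basis (B := b) ⟨fun x y => hs y x⟩
  have hd := hv.not_isOrtho_basis_self_of_separatingLeft hb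
  have hr : finrank K (Fin n → K) = n := by simp
  rcases Nat.lt_or_ge 2 n with h3 | h3
  · left
    let i : Fin (finrank K (Fin n → K)) := ⟨0, by omega⟩
    let j : Fin (finrank K (Fin n → K)) := ⟨1, by omega⟩
    let k : Fin (finrank K (Fin n → K)) := ⟨2, by omega⟩
    have hij : b (v i) (v j) = 0 := hv (by simp [i, j])
    have hik : b (v i) (v k) = 0 := hv (by simp [i, k])
    have hjk : b (v j) (v k) = 0 := hv (by simp [j, k])
    have hodd : Fintype.card K % 2 = 1 := FiniteField.odd_card_of_char_ne_two fun hc => h2 (by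
      have := ringChar.Nat.cast_ringChar (R := K)
      rwa [hc, Nat.cast_ofNat] at this)
    obtain ⟨x, y, hxy⟩ := FiniteField.exists_root_sum_quadratic
      (f := Polynomial.C (b (v i) (v i)) * Polynomial.X ^ 2 + Polynomial.C 0 * Polynomial.X + Polynomial.C 0)
      (g := Polynomial.C (b (v j) (v j)) * Polynomial.X ^ 2 + Polynomial.C 0 * Polynomial.X +
        Polynomial.C (b (v k) (v k))) (Polynomial.degree_quadratic (hd i)) (Polynomial.degree_quadratic (hd j)) hodd
    simp only [Polynomial.eval_add, Polynomial.eval_mul, Polynomial.eval_C, Polynomial.eval_pow, Polynomial.eval_X,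
      zero_mul, add_zero] at hxy
    obtain ⟨u, w, huu, huw, hww, hu⟩ : ∃ u w, b u u = 0 ∧ b u w = 0 ∧ b w w ≠ 0 ∧ u ≠ 0 := by
      refine ⟨x • v i + y • v j + v k, (b (v j) (v j) * y) • v i - (b (v i) (v i) * x) • v j, ?_, ?_, ?_, fun h0 => ?_⟩
      · simp only [map_add, map_smul, LinearMap.add_apply, LinearMap.smul_apply, smul_eq_mul, hij, hik, hjk,
          hs (v i) (v j), hs (v i) (v k), hs (v j) (v k)]
        linear_combination hxy
      · simp only [map_add, map_sub, map_smul, LinearMap.add_apply, LinearMap.smul_apply, smul_eq_mul, hij, hik, hjk,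
          hs (v i) (v j), hs (v i) (v k), hs (v j) (v k)]
        ring
      · simp only [map_sub, map_smul, LinearMap.sub_apply, LinearMap.smul_apply, smul_eq_mul, hij, hs (v i) (v j)]
        intro h0
        refine mul_ne_zero (mul_ne_zero (hd i) (hd j)) (hd k) ?_
        linear_combination (b (v i) (v i) * b (v j) (v j)) * hxy - h0
      · have h4 := congrArg (fun z => b z (v k)) h0
        simp only [map_add, map_smul, LinearMap.add_apply, LinearMap.smul_apply, hik, hjk, smul_zero, zero_add,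
          map_zero, LinearMap.zero_apply] at h4
        exact hd k h4
    have hwu : b w u = 0 := (hs u w).trans huw
    have hst : ∀ c x y, star (e.symm (r2 (σ := RingHom.id K) b c x y)) = e.symm (r2 (σ := RingHom.id K) b c y x) :=
      fun c x y => by rw [star_r2 hb one_ne_zero hs' e hadj, RingHom.id_apply, mul_one]
    refine ⟨e.symm (r2 (σ := RingHom.id K) b 1 w u) - e.symm (r2 (σ := RingHom.id K) b 1 u w),
      1 - e.symm (r2 (σ := RingHom.id K) b (2 / b w w) w w), e.symm ((2 : K)⁻¹ • 1), ?_, ?_, fun h0 => ?_, ?_, ?_, ?_, ?_⟩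
    · rw [star_sub, hst, hst, neg_sub]
    · simp only [mul_sub, sub_mul, ← map_mul, r2_mul, huu, huw, hwu, mul_zero, zero_mul, r2_zero, map_zero, sub_zero,
        zero_sub, neg_mul, neg_zero]
    · have h4 := congrArg (fun z => e z w) h0
      simp only [map_sub, e.apply_symm_apply, LinearMap.sub_apply, r2_apply, huw, mul_zero, zero_smul, zero_sub,
        one_mul, map_zero, LinearMap.zero_apply, neg_eq_zero, smul_eq_zero] at h4
      exact h4.elim hww hu
    · rw [star_sub, star_one, hst]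
    · apply e.injective
      refine LinearMap.ext fun z => ?_
      simp only [map_mul, map_sub, map_one, e.apply_symm_apply, End.mul_apply, LinearMap.sub_apply, End.one_apply,
        r2_apply, map_smul]
      have h4 : 2 / b w w * b w w = 2 := div_mul_cancel₀ _ hww
      rw [h4]
      module
    · apply e.injective
      refine LinearMap.ext fun z => ?_
      simp only [map_mul, map_sub, map_neg, map_one, e.apply_symm_apply, End.mul_apply, LinearMap.sub_apply,
        LinearMap.neg_apply, End.one_apply, r2_apply, map_smul, huw, hwu, one_mul]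
      have h4 : 2 / b w w * b w w = 2 := div_mul_cancel₀ _ hww
      match_scalars
      · linear_combination (-b u z) * h4
      · linear_combination (b w z) * h4
    · rw [← map_add, ← add_smul, ← two_mul, mul_inv_cancel₀ h2, one_smul, map_one]
  · right
    let i : Fin (finrank K (Fin n → K)) := ⟨0, by omega⟩
    let j : Fin (finrank K (Fin n → K)) := ⟨1, by omega⟩
    have hV : ∀ x, ∃ α β : K, x = α • v i + β • v j := fun x => by
      refine ⟨v.repr x i, v.repr x j, ?_⟩
      conv_lhs => rw [← v.sum_repr x]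
      refine Finset.sum_eq_add i j (by simp [i, j]) (fun k _ hk => ?_) (by simp) (by simp)
      exfalso
      have h4 := k.2
      have h5 : k.1 ≠ 0 := fun h => hk.1 (Fin.ext h)
      have h6 : k.1 ≠ 1 := fun h => hk.2 (Fin.ext h)
      omega
    have hsk : ∀ x : A, star x = -x → ∀ z, b z (e x z) = 0 := fun x hx z => by
      have h4 := hadj x z z
      rw [hx, map_neg, LinearMap.neg_apply, map_neg, hs z] at h4
      exact (mul_eq_zero.1 (by linear_combination h4 : 2 * b z (e x z) = 0)).resolve_left h2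
    refine ⟨fun x y hx hy => ?_, ?_⟩
    · by_cases h4 : b (v i) (e x (v j)) = 0
      · rw [(map_eq_zero_iff e e.injective).1 (alt2 hb one_ne_zero hs' hV (hsk x hx) h4), zero_mul, mul_zero]
      have h5 := alt2 (σ := RingHom.id K) hb one_ne_zero hs' hV
        (y := e y - (b (v i) (e y (v j)) / b (v i) (e x (v j))) • e x)
        (fun z => by rw [LinearMap.sub_apply, map_sub, LinearMap.smul_apply, map_smul, hsk x hx, hsk y hy]; simp)
        (by rw [LinearMap.sub_apply, map_sub, LinearMap.smul_apply, map_smul, smul_eq_mul, div_mul_cancel₀ _ h4,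
          sub_self])
      apply e.injective
      rw [map_mul, map_mul, sub_eq_zero.1 h5, mul_smul_comm, smul_mul_assoc]
    · obtain ⟨x, hx⟩ : ∃ x : A, star x ≠ x := by
        by_contra hc
        push Not at hc
        obtain ⟨x, y, hxy⟩ := hA
        exact hxy (by rw [← hc (x * y), star_mul, hc, hc])
      have h4 : star (x - star x) = -(x - star x) := by rw [star_sub, star_star, neg_sub]
      refine ⟨_, h4, fun h5 => hx ?_⟩
      obtain ⟨c, hc⟩ := exists_smul e h5
      have h6 := hsk _ h4 (v i)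
      rw [hc, e.apply_symm_apply, LinearMap.smul_apply, map_smul, End.one_apply, smul_eq_mul,
        mul_eq_zero_iff_right (hd i)] at h6
      rw [h6, zero_smul, map_zero, sub_eq_zero] at hc
      exact hc.symm

theorem mod (h : SS A) (hA : ∃ a b : A, a * b ≠ b * a) {l : A} (hl : l + star l = 1) :
    (∃ ν ε : A, S2 ν ε) ∨ (∃ N r h : A, OD N r h) ∨
      ((∀ x y : A, star x = -x → star y = -y → x * y = y * x) ∧ ∃ x : A, star x = -x ∧ x ∉ Subring.center A) := by
  rcases exists_model h with h1 | h1 | h1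
  · exact Or.inl (mod_L hA h1).1
  · exact Or.inl (mod_U hA hl h1)
  · exact mod_B hA hl h1

theorem idem (h : SS A) (hA : ∃ a b : A, a * b ≠ b * a) {l : A} (hl : l + star l = 1) :
    (∃ f : A, star f = f ∧ f * f = f ∧ f ≠ 0 ∧ f ≠ 1) ∨
      ((∀ z ∈ Subring.center A, star z = z) ∧ (∀ x : A, x + star x ∈ Subring.center A) ∧ ∃ ν ε : A, Sp2 ν ε) := by
  have key : (∃ f : A, star f = f ∧ f * f = f ∧ f ∉ Subring.center A) →
      ∃ f : A, star f = f ∧ f * f = f ∧ f ≠ 0 ∧ f ≠ 1 := fun ⟨f, h1, h2, h3⟩ =>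
    ⟨f, h1, h2, fun e => h3 (e ▸ zero_mem _), fun e => h3 (e ▸ one_mem _)⟩
  rcases exists_model h with h1 | ⟨K, _, _, n, e, σ, b, hn, hσ, -, hs, hb, hadj⟩ |
    ⟨K, _, _, n, e, b, hn, hs, hb, hadj⟩
  · exact Or.inl (mod_L hA h1).2
  · have hs' : ∀ v w, σ (b v w) = 1 * b w v := fun v w => by rw [one_mul, hs.eq]
    obtain ⟨v, hv⟩ : ∃ v, b v v ≠ 0 := by
      by_contra hc
      push Not at hc
      have : Nonempty (Fin n) := ⟨⟨0, hn⟩⟩
      obtain ⟨v, hv⟩ := exists_ne (0 : Fin n → K)
      obtain ⟨a, ha⟩ := ClassicalGeometry.InvolutiveNorm.exists_sigma_ne hσ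
      refine hv (hb v fun w => ?_)
      have h1 := NCTV.polar (b := b) (x := 1) hc v w
      have h2 := NCTV.polar (b := b) (x := 1) hc (a • v) w
      simp only [End.one_apply, map_smulₛₗ, LinearMap.smul_apply, smul_eq_mul, RingHom.id_apply] at h1 h2
      exact (mul_eq_zero.1 (by linear_combination h2 - a * h1 : (σ a - a) * b v w = 0)).resolve_left (sub_ne_zero.2 ha)
    exact Or.inl (key (exists_proj hb one_ne_zero hs' e hadj hA hv))
  have : Nonempty (Fin n) := ⟨⟨0, hn⟩⟩
  have hε : (-1 : K) ≠ 0 := neg_ne_zero.2 one_ne_zero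
  by_cases alt : ∀ v, b v v = 0
  swap
  · push Not at alt
    obtain ⟨v, hv⟩ := alt
    rcases hs with hs | hs
    · exact Or.inl (key (exists_proj (σ := RingHom.id K) hb one_ne_zero (fun v w => by rw [one_mul, hs]; rfl) e hadj hA hv))
    · exact Or.inl (key (exists_proj (σ := RingHom.id K) hb hε (fun v w => by rw [hs w v]; simp) e hadj hA hv))
  have hs' := alt_swap alt
  obtain ⟨u, hu⟩ := exists_ne (0 : Fin n → K)
  obtain ⟨v, hvv, hvu⟩ := exists_partner (σ := RingHom.id K) hb hε hs' e hadj hl hu (alt u)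
  have s := s2_of_hyp (σ := RingHom.id K) hb hε hs' e hadj (alt u) hvv hvu one_ne_zero (by simp)
  have h1 : e.symm (r2 (σ := RingHom.id K) b (b v u)⁻¹ u v) * e.symm (r2 (σ := RingHom.id K) b (b v u)⁻¹ u v) =
      e.symm (r2 (σ := RingHom.id K) b (b v u)⁻¹ u v) := by
    rw [← map_mul, r2_mul, inv_mul_cancel₀ hvu, one_mul]
  have h2 := star_r2 (σ := RingHom.id K) hb hε hs' e hadj (b v u)⁻¹ u v
  set E := e.symm (r2 (σ := RingHom.id K) b (b v u)⁻¹ u v) with hE
  by_cases h3 : E + star E = 1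
  swap
  · refine Or.inl ⟨E + star E, by rw [star_add, star_star, add_comm], ?_, fun h0 => s.ne ?_, h3⟩
    · rw [add_mul, mul_add, mul_add, h1, s.es, s.se, ← star_mul, h1, add_zero, zero_add]
    · have h4 := add_mul E (star E) (e.symm (r2 (σ := RingHom.id K) b 1 u u))
      rw [h0, zero_mul, s.en, s.sn, add_zero] at h4
      exact h4.symm
  have hV : ∀ x, ∃ α β : K, x = α • u + β • v := fun x => by
    rw [h2] at h3
    have h4 := congrArg (fun z => e z x) h3
    simp only [hE, map_add, e.apply_symm_apply, LinearMap.add_apply, r2_apply, map_one, End.one_apply] at h4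
    exact ⟨_, _, h4.symm⟩
  have huv : b u v ≠ 0 := fun h0 => hvu (by
    have h4 := hs' v u
    rwa [h0, mul_zero] at h4)
  refine Or.inr ⟨fun z hz => ?_, fun x => ?_, _, _, s, h3⟩
  · obtain ⟨c, rfl⟩ := exists_smul e hz
    apply e.injective
    refine LinearMap.ext fun w => ext_right (σ := RingHom.id K) hb hε hs' fun x => ?_
    rw [← hadj, e.apply_symm_apply]
    simp
  · have h4 := alt2 (σ := RingHom.id K) hb hε hs' hV (y := e (x + star x) - (b u (e (x + star x) v) / b u v) • 1)
      (fun z => by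
        have h5 := hs' z (e x z)
        rw [LinearMap.sub_apply, map_sub, LinearMap.smul_apply, map_smul, End.one_apply, alt, smul_zero, sub_zero,
          map_add, LinearMap.add_apply, map_add, ← hadj]
        rw [RingHom.id_apply] at h5
        linear_combination h5)
      (by rw [LinearMap.sub_apply, map_sub, LinearMap.smul_apply, map_smul, End.one_apply, smul_eq_mul,
        div_mul_cancel₀ _ huv, sub_self])
    rw [← e.symm_apply_apply (x + star x), sub_eq_zero.1 h4]
    exact cen_smul e _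

end Cfsg.Agent.TH.Cl.Ten
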